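import Groth.Agent.LocSym.K717.AbsRecip

/-!
# Separating functions on an abstract curve and the norm to `k(h)`

* `exists_sep_fun`: a function with a pole at one given point only, separating finitely many other points;
* `exists_mult`: a function with prescribed zeros away from a point;
* `norm_eq`: if the norm to `k(h)` of `g` is the polynomial `N` in `h` and `h` has a pole only at `p₀`, then
  `N = c ∏ (X - h(p)) ^ ord_p g`.
-/

set_option autoImplicit false
set_option linter.unusedSectionVars false

open WithZero Polynomial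

noncomputable section

namespace K709.AbsNorm

open Groth.Agent.Models.FFRR Groth.Agent.Models.FFLen K717.ExtLocal K717.Abs

variable {k K P : Type*} [Field k] [IsAlgClosed k] [Field K] [Algebra k K] {C : Crv k K P} (hC : Nice C)

theorem exists_injOn (T : Finset P) : ∃ c : P → k, Set.InjOn c (T : Set P) := by
  classical
  have : Infinite k := IsAlgClosed.instInfinite
  let e := Infinite.natEmbedding k
  refine ⟨fun p => if h : p ∈ T then e (T.equivFin ⟨p, h⟩) else 0, ?_⟩
  intro p hp q hq h
  have hp' : p ∈ T := hp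
  have hq' : q ∈ T := hq
  simp only [dif_pos hp', dif_pos hq'] at h
  have h1 := T.equivFin.injective (Fin.ext (e.injective h))
  exact congrArg Subtype.val h1

include hC in
/-- A function with a pole at `p₀` only, separating the points of a finite set. -/
theorem exists_sep_fun (Z : Finset P) (p₀ : P) (hp₀ : p₀ ∉ Z) :
    ∃ h : K, (∀ a : k, h ≠ algebraMap k K a) ∧ (∀ p, p ≠ p₀ → C.v p h ≤ 1) ∧ 1 < C.v p₀ h ∧
      ∃ c : P → k, Set.InjOn c (Z : Set P) ∧ ∀ p, p ≠ p₀ → HV (C.v p) h (c p) := by
  classical
  have hinf := hC.infinite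
  obtain ⟨q₁, hq₁⟩ := Infinite.exists_notMem_finset (insert p₀ Z)
  obtain ⟨q₂, hq₂⟩ := Infinite.exists_notMem_finset (insert q₁ (insert p₀ Z))
  rw [Finset.mem_insert, not_or] at hq₁
  rw [Finset.mem_insert, Finset.mem_insert, not_or, not_or] at hq₂
  let T := insert q₁ (insert q₂ Z)
  have hT : p₀ ∉ T := by
    simp only [T, Finset.mem_insert, not_or]
    exact ⟨fun h => hq₁.1 h.symm, fun h => hq₂.2.1 h.symm, hp₀⟩
  obtain ⟨c₀, hc₀⟩ := exists_injOn (k := k) T
  obtain ⟨h, hh, hh'⟩ := hC.exists_strong p₀ T hT 1 (fun p => algebraMap k K (c₀ p))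
  have hv : ∀ p ∈ T, HV (C.v p) h (c₀ p) := fun p hp => (hh p hp).trans_lt (by
    rw [← exp_zero, exp_lt_exp]; norm_num)
  have hle : ∀ p, p ≠ p₀ → C.v p h ≤ 1 := by
    intro p hp
    by_cases hpT : p ∈ T
    · exact (hv p hpT).le_one (cst p)
    · exact hh' p hpT hp
  have hnc : ∀ a : k, h ≠ algebraMap k K a := by
    intro a ha
    have h1 : ∀ p ∈ T, c₀ p = a := fun p hp => (hv p hp).unique (cst p) (by rw [ha]; exact HV.const a)
    have h2 : q₁ ∈ T := by simp [T]
    have h3 : q₂ ∈ T := by simp [T]
    exact hq₂.1 (hc₀ h3 h2 (by rw [h1 _ h3, h1 _ h2]))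
  obtain ⟨p, hp⟩ := hC.exists_pole_of hnc
  have hpp : p = p₀ := by
    by_contra hne
    exact absurd (hle p hne) (not_le.2 hp)
  subst hpp
  have hval : ∀ q, ∃ a : k, q ≠ p → HV (C.v q) h a := by
    intro q
    by_cases hq : q = p
    · exact ⟨0, fun h => absurd hq h⟩
    · obtain ⟨a, ha⟩ := hC.value q h (hle q hq)
      exact ⟨a, fun _ => ha⟩
  choose c hc using hval
  refine ⟨h, hnc, hle, hp, c, ?_, hc⟩
  have hcc : ∀ q ∈ T, c q = c₀ q := fun q hq =>
    (hc q (fun h => hT (h ▸ hq))).unique (cst q) (hv q hq)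
  intro q hq q' hq' heq
  have hqT : q ∈ T := by simp only [T, Finset.mem_insert]; exact Or.inr (Or.inr hq)
  have hqT' : q' ∈ T := by simp only [T, Finset.mem_insert]; exact Or.inr (Or.inr hq')
  rw [hcc q hqT, hcc q' hqT'] at heq
  exact hc₀ hqT hqT' heq

include hC in
/-- A nonzero function with at least the prescribed orders away from `p₀`. -/
theorem exists_mult (D : P →₀ ℤ) (p₀ : P) : ∃ G : K, G ≠ 0 ∧ ∀ p, p ≠ p₀ → D p ≤ C.div G p := by
  classical
  have hinf := hC.infinite
  obtain ⟨q, hq⟩ := Infinite.exists_notMem_finset (insert p₀ D.support)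
  rw [Finset.mem_insert, not_or] at hq
  let T := insert q (D.support.erase p₀)
  have hT : p₀ ∉ T := by
    simp only [T, Finset.mem_insert, not_or]
    exact ⟨fun h => hq.1 h.symm, Finset.notMem_erase _ _⟩
  let N : ℕ := D.support.sup (fun p => (D p).natAbs) + 1
  obtain ⟨G, hG, hG'⟩ := hC.exists_strong p₀ T hT N (fun p => if p = q then 1 else 0)
  have hGq : HV (C.v q) G (1 : k) := by
    have h1 := hG q (by simp [T])
    rw [if_pos rfl] at h1
    unfold HV
    rw [map_one]
    refine h1.trans_lt ?_
    rw [← exp_zero, exp_lt_exp]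
    simp only [N]
    push_cast
    omega
  have hG0 : G ≠ 0 := by
    rintro rfl
    have := hGq.eq_one (cst q) one_ne_zero
    rw [map_zero] at this
    exact zero_ne_one this
  refine ⟨G, hG0, fun p hp => ?_⟩
  by_cases hpD : p ∈ D.support
  · have hpq : p ≠ q := by rintro rfl; exact hq.2 hpD
    have h1 := hG p (by simp only [T, Finset.mem_insert, Finset.mem_erase]; exact Or.inr ⟨hp, hpD⟩)
    rw [if_neg hpq, sub_zero, C.v_eq_exp hG0, exp_le_exp] at h1
    have h2 := Finset.le_sup (f := fun p => (D p).natAbs) hpD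
    simp only [N] at h1
    push_cast at h1
    omega
  · rw [Finsupp.notMem_support_iff.1 hpD]
    have h1 : C.v p G ≤ 1 := by
      by_cases hpq : p = q
      · rw [hpq]
        exact hGq.le_one (cst q)
      · refine hG' p ?_ hp
        simp only [T, Finset.mem_insert, Finset.mem_erase, not_or, not_and]
        exact ⟨hpq, fun _ => hpD⟩
    rw [C.v_eq_exp hG0, ← exp_zero, exp_le_exp] at h1
    omega

/-- A nonconstant function is transcendental. -/
theorem aeval_injective {h : K} (hnc : ∀ a : k, h ≠ algebraMap k K a) :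
    Function.Injective (aeval h : k[X] →ₐ[k] K) := by
  rw [injective_iff_map_eq_zero]
  intro p hp
  by_contra hp0
  rw [(IsAlgClosed.splits p).eq_prod_roots, map_mul, aeval_C, mul_eq_zero] at hp
  rcases hp with hp | hp
  · rw [FaithfulSMul.algebraMap_eq_zero_iff] at hp
    exact hp0 (leadingCoeff_eq_zero.1 hp)
  · rw [map_multiset_prod, Multiset.prod_eq_zero_iff] at hp
    simp only [Multiset.map_map, Multiset.mem_map, Function.comp_apply] at hp
    obtain ⟨c, -, hc⟩ := hp
    rw [map_sub, aeval_X, aeval_C, sub_eq_zero] at hc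
    exact hnc c hc

/-- The polynomial `∏ (X - η(p)) ^ e(p)`. -/
def pol (η : P → k) (e : P →₀ ℕ) : k[X] := e.prod fun p n => (X - Polynomial.C (η p)) ^ n

theorem pol_add (η : P → k) (e e' : P →₀ ℕ) : pol η (e + e') = pol η e * pol η e' := by
  classical
  exact Finsupp.prod_add_index' (fun _ => pow_zero _) (fun _ _ _ => pow_add _ _ _)

theorem pol_single (η : P → k) (p : P) (n : ℕ) : pol η (Finsupp.single p n) = (X - Polynomial.C (η p)) ^ n :=
  Finsupp.prod_single_index (pow_zero _)

theorem pol_zero (η : P → k) : pol η 0 = 1 := Finsupp.prod_zero_index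

theorem pol_sum (η : P → k) {ι : Type*} (s : Finset ι) (e : ι → P →₀ ℕ) :
    pol η (∑ i ∈ s, e i) = ∏ i ∈ s, pol η (e i) := by
  classical
  induction s using Finset.induction_on with
  | empty => rw [Finset.sum_empty, Finset.prod_empty, pol_zero]
  | insert a s ha ih => rw [Finset.sum_insert ha, Finset.prod_insert ha, pol_add, ih]

theorem monic_pol (η : P → k) (e : P →₀ ℕ) : (pol η e).Monic :=
  monic_prod_of_monic _ _ fun p _ => (monic_X_sub_C (η p)).pow _

theorem natDegree_pol (η : P → k) (e : P →₀ ℕ) : (pol η e).natDegree = e.sum fun _ n => n := by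
  unfold pol
  rw [Finsupp.prod, natDegree_prod_of_monic _ _ fun p _ => (monic_X_sub_C (η p)).pow _]
  refine Finset.sum_congr rfl fun p _ => ?_
  rw [(monic_X_sub_C (η p)).natDegree_pow, natDegree_X_sub_C, mul_one]

include hC in
/-- The norm to `k(h)` as a polynomial in `h`. -/
theorem norm_eq {h : K} (hnc : ∀ a : k, h ≠ algebraMap k K a) {p₀ : P} (hp₀ : 1 < C.v p₀ h) {η : P → k}
    (hη : ∀ p, p ≠ p₀ → HV (C.v p) h (η p)) {g : K} (hg : g ≠ 0) (e : P →₀ ℕ)
    (he : ∀ p, p ≠ p₀ → (e p : ℤ) = C.div g p) (he₀ : e p₀ = 0) (N : k[X])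
    (hN : (Algebra.norm (IntermediateField.adjoin k {h}) g : K) = aeval h N) :
    ∃ c : k, c ≠ 0 ∧ N = Polynomial.C c * pol η e := by
  classical
  have hfd : FiniteDimensional (IntermediateField.adjoin k {h}) K := by
    have := @Fintype.ofFinite _ (finite_Z C (tk_ne_zero hnc none))
    exact (hC.exists_data (tk_ne_zero hnc none) (hC.exists_zero_tk hnc none)
      (IntermediateField.adjoin k {h}) (adjoin_tk h none) (tk_mem h none)).1
  let K' := IntermediateField.adjoin k {h}
  let h' : K' := ⟨h, IntermediateField.mem_adjoin_simple_self k h⟩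
  have haev : ∀ p : k[X], ((aeval h' p : K') : K) = aeval h p := fun p =>
    (Polynomial.aeval_algebraMap_apply K h' p).symm
  have hpol0 : (aeval h' (pol η e) : K') ≠ 0 := by
    intro h0
    have h1 : aeval h (pol η e) = 0 := by rw [← haev, h0]; rfl
    exact (monic_pol η e).ne_zero (aeval_injective hnc (h1.trans (map_zero _).symm))
  set H := Algebra.norm K' g with hH
  have hH0 : H ≠ 0 := Algebra.norm_ne_zero_iff.2 hg
  have hq0 : H / aeval h' (pol η e) ≠ 0 := div_ne_zero hH0 hpol0
  obtain ⟨c, m, hc, hcm⟩ := exists_form hnc (H / aeval h' (pol η e)).2 (by simpa using hq0)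
  have hm : m = 0 := by
    ext b
    have := @Fintype.ofFinite _ (finite_Z C (tk_ne_zero hnc (some b)))
    obtain ⟨w, hw, hwn, -⟩ := fibre_data hC hnc hg (some b)
    have h1 := hw.v_form hnc hc hcm
    have h2 : w (aeval h' (pol η e)) = exp (-(∑ p ∈ e.support, if η p = b then (e p : ℤ) else 0)) := by
      unfold pol
      rw [Finsupp.prod, map_prod, map_prod]
      have h3 : ∀ p, w (aeval h' ((X - Polynomial.C (η p)) ^ e p)) = exp (-(if η p = b then (e p : ℤ) else 0)) := by
        intro p
        have h4 : aeval h' (X - Polynomial.C (η p)) = tk' k h (some (η p)) := by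
          apply Subtype.ext
          rw [haev, map_sub, aeval_X, aeval_C]
          rfl
        rw [map_pow, map_pow, h4]
        split_ifs with hb
        · rw [hb, hw.t, ← exp_nsmul]
          simp
        · rw [hw.v_ne hb, one_pow, neg_zero, exp_zero]
      rw [Finset.prod_congr rfl fun p _ => h3 p]
      rw [← Finset.sum_neg_distrib]
      induction e.support using Finset.induction_on with
      | empty => rw [Finset.prod_empty, Finset.sum_empty, exp_zero]
      | insert a s ha ih => rw [Finset.prod_insert ha, Finset.sum_insert ha, exp_add, ih]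
    have h5 : ∑ p : Z C (tk k h (some b)), C.div g p.1 = ∑ p ∈ e.support, if η p = b then (e p : ℤ) else 0 := by
      have h6 : ∀ p, C.v p (tk k h (some b)) < 1 ↔ p ≠ p₀ ∧ η p = b := by
        intro p
        change HV (C.v p) h b ↔ _
        constructor
        · intro hb
          have hpp : p ≠ p₀ := by
            rintro rfl
            exact absurd (hb.le_one (cst p)) (not_le.2 hp₀)
          exact ⟨hpp, (hη p hpp).unique (cst p) hb⟩
        · rintro ⟨hpp, rfl⟩
          exact hη p hpp
      let S : Finset P := Finset.univ.map ⟨fun p : Z C (tk k h (some b)) => p.1, Subtype.val_injective⟩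
      have hS : ∀ p, p ∈ S ↔ p ≠ p₀ ∧ η p = b := by
        intro p
        simp only [S, Finset.mem_map, Finset.mem_univ, true_and, Function.Embedding.coeFn_mk]
        constructor
        · rintro ⟨q, rfl⟩
          exact (h6 _).1 q.2
        · intro hp
          exact ⟨⟨p, (h6 p).2 hp⟩, rfl⟩
      have h7 : ∑ p : Z C (tk k h (some b)), C.div g p.1 = ∑ p ∈ S, C.div g p :=
        (Finset.sum_map (Finset.univ : Finset (Z C (tk k h (some b))))
          ⟨fun p => p.1, Subtype.val_injective⟩ (fun p => C.div g p)).symm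
      rw [h7, ← Finset.sum_filter]
      have h8 : e.support.filter (fun p => η p = b) ⊆ S := by
        intro p hp
        rw [Finset.mem_filter] at hp
        refine (hS p).2 ⟨?_, hp.2⟩
        rintro rfl
        exact (Finsupp.mem_support_iff.1 hp.1) he₀
      rw [Finset.sum_subset h8 (f := fun p => (e p : ℤ))]
      · exact Finset.sum_congr rfl fun p hp => (he p ((hS p).1 hp).1).symm
      · intro p hp hp'
        rw [Finset.mem_filter, not_and] at hp'
        by_contra hne
        exact hp' (Finsupp.mem_support_iff.2 (by simpa using hne)) ((hS p).1 hp).2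
    rw [h5, ← hH] at hwn
    rw [map_div₀, hwn, h2, div_self exp_ne_zero, ← exp_zero, exp_inj] at h1
    rw [Finsupp.zero_apply]
    omega
  refine ⟨c, hc, aeval_injective hnc ?_⟩
  rw [hm, form_zero] at hcm
  rw [map_mul, aeval_C, ← hcm, ← hN, ← haev]
  change (H : K) = ((H / aeval h' (pol η e) * aeval h' (pol η e) : K') : K)
  rw [div_mul_cancel₀ _ hpol0]

end K709.AbsNorm
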