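import Groth.Agent.Curves.K709.NormMap
import Groth.Agent.Curves.K709.AbsNorm

/-!
# Strata of a linear system on an abstract curve

`exists_poly`: the elements of a linear system whose divisor is of the form `∑ ν_i x_i` are separated from any other
element by a polynomial function.
-/

set_option autoImplicit false
set_option linter.unusedSectionVars false

open WithZero Polynomial

noncomputable section

namespace K709.AbsStrat

open Groth.Agent.Models.FFRR Groth.Agent.Models.FFLen K717.ExtLocal K717.Abs K709.PolyClosed K709.NormMap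
  K709.AbsNorm

section comb

variable {P : Type*} (p₀ : P) (D D' : P →₀ ℤ)

/-- Remove the point `p₀` and take positive parts. -/
def tr : P →₀ ℕ := (D.mapRange Int.toNat rfl).erase p₀

theorem tr_self : tr p₀ D p₀ = 0 := by
  classical
  exact Finsupp.erase_same

theorem tr_of_ne {p : P} (hp : p ≠ p₀) : tr p₀ D p = (D p).toNat := by
  classical
  rw [tr, Finsupp.erase_ne hp, Finsupp.mapRange_apply]

variable {p₀ D D'}

theorem tr_coe (h : ∀ p, p ≠ p₀ → 0 ≤ D p) {p : P} (hp : p ≠ p₀) : (tr p₀ D p : ℤ) = D p := by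
  rw [tr_of_ne p₀ D hp, Int.toNat_of_nonneg (h p hp)]

theorem tr_add (h : ∀ p, p ≠ p₀ → 0 ≤ D p) (h' : ∀ p, p ≠ p₀ → 0 ≤ D' p) :
    tr p₀ (D + D') = tr p₀ D + tr p₀ D' := by
  ext p
  by_cases hp : p = p₀
  · rw [hp, Finsupp.add_apply, tr_self, tr_self, tr_self]
  · rw [Finsupp.add_apply, tr_of_ne _ _ hp, tr_of_ne _ _ hp, tr_of_ne _ _ hp, Finsupp.add_apply,
      Int.toNat_add (h p hp) (h' p hp)]

/-- The degree. -/
def dg : (P →₀ ℤ) →+ ℤ := Finsupp.liftAddHom (fun _ => AddMonoidHom.id ℤ)

theorem dg_apply (D : P →₀ ℤ) : dg D = D.sum fun _ n => n := rfl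

theorem dg_single (p : P) (n : ℤ) : dg (Finsupp.single p n) = n := by
  rw [dg_apply, Finsupp.sum_single_index rfl]

theorem sum_tr (h : ∀ p, p ≠ p₀ → 0 ≤ D p) :
    (((tr p₀ D).sum fun _ n => n : ℕ) : ℤ) = dg D - D p₀ := by
  classical
  have h1 : D = (tr p₀ D).mapRange (Nat.cast : ℕ → ℤ) rfl + Finsupp.single p₀ (D p₀) := by
    ext p
    rw [Finsupp.add_apply, Finsupp.mapRange_apply]
    by_cases hp : p = p₀
    · rw [hp, tr_self, Finsupp.single_eq_same]
      simp
    · rw [tr_coe h hp, Finsupp.single_eq_of_ne hp, add_zero]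
  have h2 : dg ((tr p₀ D).mapRange (Nat.cast : ℕ → ℤ) rfl) = (((tr p₀ D).sum fun _ n => n : ℕ) : ℤ) := by
    rw [dg_apply, Finsupp.sum_mapRange_index (fun _ => rfl), Finsupp.sum, Finsupp.sum]
    push_cast
    rfl
  rw [← h2]
  conv_rhs => rw [h1]
  rw [map_add, dg_single, Finsupp.add_apply, Finsupp.mapRange_apply, tr_self, Finsupp.single_eq_same]
  simp

end comb

section roots

variable {k : Type*} [Field k]

theorem rootMultiplicity_prod [DecidableEq k] {ι : Type*} (s : Finset ι) (c : ι → k) (n : ι → ℕ) (b : k) :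
    rootMultiplicity b (∏ i ∈ s, (X - C (c i)) ^ n i) = ∑ i ∈ s, if c i = b then n i else 0 := by
  classical
  induction s using Finset.induction_on with
  | empty =>
    rw [Finset.prod_empty, Finset.sum_empty]
    exact rootMultiplicity_eq_zero (by simp)
  | insert a s ha ih =>
    rw [Finset.prod_insert ha, Finset.sum_insert ha, rootMultiplicity_mul, ih]
    · congr 1
      split_ifs with h
      · rw [h]
        exact rootMultiplicity_X_sub_C_pow b (n a)
      · apply rootMultiplicity_eq_zero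
        rw [IsRoot, eval_pow, eval_sub, eval_X, eval_C]
        exact pow_ne_zero _ (sub_ne_zero.2 (Ne.symm h))
    · exact mul_ne_zero (pow_ne_zero _ (X_sub_C_ne_zero _))
        (Finset.prod_ne_zero_iff.2 fun i _ => pow_ne_zero _ (X_sub_C_ne_zero _))

theorem exists_eq_sum {P : Type*} (e : P →₀ ℕ) {η : P → k} (hη : Set.InjOn η (e.support : Set P)) {m : ℕ}
    {ν : Fin m → ℕ} (hν : ∀ i, 0 < ν i) (t : Fin m → k)
    (h : pol η e = ∏ i, (X - C (t i)) ^ ν i) : ∃ x : Fin m → P, e = ∑ i, Finsupp.single (x i) (ν i) := by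
  classical
  have h1 : ∀ b : k, (∑ p ∈ e.support, if η p = b then e p else 0) = ∑ i, if t i = b then ν i else 0 := by
    intro b
    have h2 := congrArg (rootMultiplicity b) h
    unfold pol at h2
    rw [Finsupp.prod, rootMultiplicity_prod, rootMultiplicity_prod] at h2
    exact h2
  have h2 : ∀ i, ∃ p ∈ e.support, η p = t i := by
    intro i
    by_contra! hcon
    have h3 := h1 (t i)
    rw [Finset.sum_eq_zero fun p hp => if_neg (hcon p hp)] at h3
    have h4 := (Finset.sum_eq_zero_iff.1 h3.symm) i (Finset.mem_univ i)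
    rw [if_pos rfl] at h4
    exact (hν i).ne' h4
  choose x hx hxt using h2
  refine ⟨x, ?_⟩
  ext p
  rw [Finsupp.finsetSum_apply]
  simp only [Finsupp.single_apply]
  by_cases hp : p ∈ e.support
  · have h3 := h1 (η p)
    rw [Finset.sum_eq_single p (fun q hq hqp => if_neg fun h => hqp (hη hq hp h)) (fun h => absurd hp h),
      if_pos rfl] at h3
    rw [h3]
    refine Finset.sum_congr rfl fun i _ => ?_
    have : t i = η p ↔ x i = p := by
      rw [← hxt]
      exact ⟨fun h => hη (hx i) hp h, fun h => by rw [h]⟩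
    simp only [this]
  · rw [Finsupp.notMem_support_iff.1 hp]
    refine (Finset.sum_eq_zero fun i _ => if_neg ?_).symm
    rintro rfl
    exact hp (hx i)

end roots

variable {k K P : Type*} [Field k] [IsAlgClosed k] [Field K] [Algebra k K] {C : Crv k K P} (hC : Nice C)

theorem v_aeval_le (h : K) (p : P) (hp : C.v p h ≤ 1) (E : k[X]) : C.v p (aeval h E) ≤ 1 := by
  rw [aeval_eq_sum_range]
  refine Valuation.map_sum_le _ fun i _ => ?_
  rw [Algebra.smul_def, map_mul, map_pow]
  exact mul_le_one' (C.v_const p _) (pow_le_one₀ zero_le hp)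

theorem div_nonneg_of_le {g : K} (hg : g ≠ 0) {p : P} (h : C.v p g ≤ 1) : 0 ≤ C.div g p := by
  rw [C.v_eq_exp hg, ← exp_zero, exp_le_exp] at h
  omega

include hC in
/-- Separation from a stratum by a polynomial function. -/
theorem exists_poly (D₀ : P →₀ ℤ) {V : Type*} [AddCommGroup V] [Module k V] (f : V →ₗ[k] K)
    (hf : Function.Injective f) (hpos : ∀ v, v ≠ 0 → 0 ≤ C.div (f v) + D₀) {m : ℕ} {ν : Fin m → ℕ}
    (hν : ∀ i, 0 < ν i) (v₀ : V) (h0 : v₀ ≠ 0)
    (hnot : ∀ x : Fin m → P, C.div (f v₀) + D₀ ≠ ∑ i, Finsupp.single (x i) (ν i : ℤ)) :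
    ∃ G ∈ pf k V, G v₀ ≠ 0 ∧
      ∀ v, (v = 0 ∨ ∃ x : Fin m → P, C.div (f v) + D₀ = ∑ i, Finsupp.single (x i) (ν i : ℤ)) → G v = 0 := by
  classical
  have hinf := hC.infinite
  have hne := hC.nonempty
  have hf0 : ∀ v, v ≠ 0 → f v ≠ 0 := fun v hv h => hv (hf (h.trans (map_zero f).symm))
  -- finiteness
  have hfin : Module.Finite k V := by
    have := hC.fin.finite_L D₀
    have hmem : ∀ v, f v ∈ C.L D₀ := by
      intro v
      by_cases hv : v = 0
      · rw [hv, map_zero]; exact Submodule.zero_mem _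
      · rw [C.mem_L_iff (hf0 v hv), add_comm]
        exact hpos v hv
    exact Module.Finite.of_injective (f.codRestrict (C.L D₀) hmem)
      (fun a b hab => hf (congrArg Subtype.val hab))
  -- the function `h`
  obtain ⟨p₀, hp₀⟩ := Infinite.exists_notMem_finset (C.div (f v₀) + D₀).support
  obtain ⟨h, hnc, hle, hpole, η, hηinj, hη⟩ := exists_sep_fun hC (C.div (f v₀) + D₀).support p₀ hp₀
  have hfd : FiniteDimensional (IntermediateField.adjoin k {h}) K := by
    have := @Fintype.ofFinite _ (finite_Z C (tk_ne_zero hnc none))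
    exact (hC.exists_data (tk_ne_zero hnc none) (hC.exists_zero_tk hnc none)
      (IntermediateField.adjoin k {h}) (adjoin_tk h none) (tk_mem h none)).1
  obtain ⟨G₀, hG₀, hG₀'⟩ := exists_mult hC D₀ p₀
  obtain ⟨E, hE, N, hN, hN'⟩ := exists_norm_map h (LinearMap.mulLeft k G₀ ∘ₗ f)
  have hEh : aeval h E ≠ 0 := fun h1 => hE (aeval_injective hnc (h1.trans (map_zero _).symm))
  let g : V → K := fun v => aeval h E * (G₀ * f v)
  have hg0 : ∀ v, v ≠ 0 → g v ≠ 0 := fun v hv => mul_ne_zero hEh (mul_ne_zero hG₀ (hf0 v hv))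
  have hNg : ∀ v, (Algebra.norm (IntermediateField.adjoin k {h}) (g v) : K) = aeval h (N v) := hN'
  let D : P →₀ ℤ := C.div (aeval h E) + C.div G₀ - D₀
  let o : V → P →₀ ℤ := fun v => C.div (f v) + D₀
  have ho : ∀ v, v ≠ 0 → ∀ p, 0 ≤ o v p := fun v hv p => hpos v hv p
  have hdiv : ∀ v, v ≠ 0 → C.div (g v) = D + o v := by
    intro v hv
    simp only [g, D, o]
    rw [Groth.Agent.MiscA.ZetaCrv.div_mul C hEh (mul_ne_zero hG₀ (hf0 v hv)),
      Groth.Agent.MiscA.ZetaCrv.div_mul C hG₀ (hf0 v hv)]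
    abel
  have hD : ∀ p, p ≠ p₀ → 0 ≤ D p := by
    intro p hp
    have h1 := div_nonneg_of_le hEh (v_aeval_le h p (hle p hp) E)
    have h2 := hG₀' p hp
    simp only [D, Finsupp.sub_apply, Finsupp.add_apply]
    omega
  have hstar : ∀ v, v ≠ 0 → ∃ c : k, c ≠ 0 ∧ N v = Polynomial.C c * (pol η (tr p₀ D) * pol η (tr p₀ (o v))) := by
    intro v hv
    obtain ⟨c, hc, h1⟩ := norm_eq hC hnc hpole hη (hg0 v hv) (tr p₀ (D + o v)) (fun p hp => by
      rw [hdiv v hv, tr_coe (fun q hq => ?_) hp]
      exact add_nonneg (hD q hq) (ho v hv q)) (tr_self _ _) (N v) (hNg v)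
    refine ⟨c, hc, ?_⟩
    rw [h1, tr_add hD (fun q _ => ho v hv q), pol_add]
  choose! c hc hNc using hstar
  have hdeg : ∀ v, v ≠ 0 → ((N v).natDegree : ℤ) = -D p₀ - o v p₀ := by
    intro v hv
    rw [hNc v hv, natDegree_C_mul (hc v hv), (monic_pol _ _).natDegree_mul (monic_pol _ _), natDegree_pol,
      natDegree_pol, Nat.cast_add, sum_tr hD, sum_tr (fun q _ => ho v hv q)]
    have h1 := hC.fin.deg_div (hg0 v hv)
    rw [hC.deg_eq, ← dg_apply, hdiv v hv, map_add] at h1
    linarith
  have hlead : ∀ v, v ≠ 0 → (N v).coeff (N v).natDegree = c v := by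
    intro v hv
    change (N v).leadingCoeff = c v
    rw [hNc v hv, leadingCoeff_mul, leadingCoeff_C, ((monic_pol _ _).mul (monic_pol _ _)).leadingCoeff, mul_one]
  let M := (N v₀).natDegree
  have hop₀ : o v₀ p₀ = 0 := Finsupp.notMem_support_iff.1 hp₀
  have hM : (M : ℤ) = -D p₀ := by
    have := hdeg v₀ h0
    rw [hop₀] at this
    simpa using this
  have hN0 : N 0 = 0 := by
    apply aeval_injective hnc
    rw [← hNg]
    simp only [g, map_zero, mul_zero]
    rw [Algebra.norm_zero]
    rfl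
  obtain ⟨G, hG, hG1, hG2⟩ := exists_sep_map (pf k V) const_mem_pf hN M (monic_pol η (tr p₀ D)) hν v₀
    (by rw [hlead v₀ h0]; exact hc v₀ h0) (fun t ht => by
      rw [show (N v₀).coeff M = c v₀ from hlead v₀ h0, hNc v₀ h0, fam] at ht
      have h1 := mul_left_cancel₀ (monic_pol η (tr p₀ D)).ne_zero
        (mul_left_cancel₀ (C_ne_zero.2 (hc v₀ h0)) ht)
      have htr : ∀ p, (tr p₀ (o v₀) p : ℤ) = o v₀ p := by
        intro p
        by_cases hp : p = p₀
        · rw [hp, tr_self, hop₀]; rfl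
        · exact tr_coe (fun q _ => ho v₀ h0 q) hp
      have hsupp : (tr p₀ (o v₀)).support ⊆ (C.div (f v₀) + D₀).support := by
        intro p hp
        rw [Finsupp.mem_support_iff] at hp ⊢
        intro h2
        apply hp
        have := htr p
        rw [show o v₀ p = 0 from h2] at this
        exact_mod_cast this
      obtain ⟨x, hx⟩ := exists_eq_sum (tr p₀ (o v₀)) (hηinj.mono hsupp) hν t h1
      apply hnot x
      ext p
      change o v₀ p = _
      rw [← htr p, hx, Finsupp.finsetSum_apply, Finsupp.finsetSum_apply]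
      push_cast
      refine Finset.sum_congr rfl fun i _ => ?_
      rw [Finsupp.single_apply, Finsupp.single_apply]
      split_ifs <;> simp)
  refine ⟨G, hG, hG1, fun v hv => hG2 v ?_⟩
  by_cases hv0 : v = 0
  · left
    rw [hv0, hN0, coeff_zero]
  obtain ⟨x, hx⟩ := hv.resolve_left hv0
  have hd := hdeg v hv0
  rcases (ho v hv0 p₀).lt_or_eq with hlt | heq
  · left
    apply coeff_eq_zero_of_natDegree_lt
    omega
  · right
    rw [← heq] at hd
    have hMd : M = (N v).natDegree := by omega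
    have hxp : ∀ i, x i ≠ p₀ := by
      intro i hi
      have h1 : o v p₀ = ∑ i, (Finsupp.single (x i) (ν i : ℤ)) p₀ := by
        rw [← Finsupp.finsetSum_apply, ← hx]
      rw [← heq] at h1
      have h2 := (Finset.sum_eq_zero_iff_of_nonneg (fun j _ => by
        rw [Finsupp.single_apply]; split_ifs <;> positivity)).1 h1.symm i (Finset.mem_univ i)
      rw [hi, Finsupp.single_eq_same] at h2
      have := hν i
      omega
    refine ⟨fun i => η (x i), ?_⟩
    rw [hMd, hlead v hv0]
    conv_lhs => rw [hNc v hv0]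
    rw [fam]
    congr 2
    have h3 : tr p₀ (o v) = ∑ i, Finsupp.single (x i) (ν i) := by
      ext p
      have h4 : (tr p₀ (o v) p : ℤ) = o v p := by
        by_cases hp : p = p₀
        · rw [hp, tr_self, ← heq]; rfl
        · exact tr_coe (fun q _ => ho v hv0 q) hp
      have h5 : o v p = ∑ i, (Finsupp.single (x i) (ν i : ℤ)) p := by
        rw [← Finsupp.finsetSum_apply, ← hx]
      rw [Finsupp.finsetSum_apply]
      have h6 : (tr p₀ (o v) p : ℤ) = ((∑ i, (Finsupp.single (x i) (ν i)) p : ℕ) : ℤ) := by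
        rw [h4, h5]
        push_cast
        refine Finset.sum_congr rfl fun i _ => ?_
        rw [Finsupp.single_apply, Finsupp.single_apply]
        split_ifs <;> simp
      exact_mod_cast h6
    rw [h3, pol_sum]
    exact Finset.prod_congr rfl fun i _ => pol_single _ _ _

end K709.AbsStrat
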