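import Groth.Agent.Curves.K709.GenHyp

/-!
# General hyperplane sections have no double points (characteristic zero)

`φ : X ⟶ P^n_k`, `X` Noetherian of finite type over `k` algebraically closed of characteristic zero.
* `mem_hyp_iff`: `φ x ∈ V(ℓ)` iff the local equation of `ℓ` lies in `m_x`;
* `generic_good`: for general `ℓ` the local equation of `ℓ` lies in `m_x ^ 2` for no closed point `x`.
-/

set_option autoImplicit false
universe u

open CategoryTheory AlgebraicGeometry Limits TopologicalSpace Opposite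

namespace K709.GenGood

open LefPen Groth.Agent.Fdesc.LocGen Groth.Agent.Lefpen.H705.HypIdeal Groth.Agent.Lefpen.H705.SecIdeal
open Groth.Agent.Lefpen.H702.PolyFun Groth.Agent.Lefpen.H708.Geo
open Groth.Agent.Sga5 IsLocalRing

variable {n : ℕ} {k : Type u} [Field k] {X : Scheme.{u}} (φ : X ⟶ CohB1.ProjSpace n k)

theorem mem_hyp_iff {d : ℕ} (G : Form n k d) (j : Fin (n + 1)) (x : X) (hx : φ x ∈ chart n k j) :
    φ x ∈ (hypIdeal G).support ↔ stalkEqn φ j x hx G ∈ maximalIdeal (X.presheaf.stalk x) := by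
  have h1 := mem_support_secIdeal_iff φ ({G} : Set (Form n k d)) j x hx
  have h2 : secIdeal φ ({G} : Set (Form n k d)) = (hypIdeal G).comap φ := by
    rw [secIdeal, iSup_singleton]
  rw [h2, Scheme.IdealSheafData.support_comap] at h1
  constructor
  · intro h
    exact h1.mp h G rfl
  · intro h
    refine h1.mpr ?_
    rintro G' rfl
    exact h

/-- The constants as functions on `U`. -/
noncomputable def kst (g : X ⟶ Spec (CommRingCat.of k)) (U : X.Opens) : k →+* Γ(X, U) :=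
  (g.appLE ⊤ U le_top).hom.comp (Scheme.ΓSpecIso (CommRingCat.of k)).inv.hom

theorem finiteType_kst (g : X ⟶ Spec (CommRingCat.of k)) [LocallyOfFiniteType g] (U : X.Opens)
    (hU : IsAffineOpen U) : (kst g U).FiniteType := by
  have h1 : (g.appLE ⊤ U le_top).hom.FiniteType :=
    HasRingHomProperty.appLE (P := @LocallyOfFiniteType) g inferInstance ⟨⊤, isAffineOpen_top _⟩ ⟨U, hU⟩ le_top
  refine RingHom.FiniteType.comp h1 ?_
  exact RingHom.FiniteType.of_surjective _
    (ConcreteCategory.bijective_of_isIso (Scheme.ΓSpecIso (CommRingCat.of k)).inv).2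

theorem generic_affine [CharZero k] [IsAlgClosed k] (g : X ⟶ Spec (CommRingCat.of k)) [LocallyOfFiniteType g]
    (hφ : φ ≫ CohB1.ProjSpace.toSpec n k = g) (j : Fin (n + 1)) (U : X.Opens) (hUa : IsAffineOpen U)
    (hU : U ≤ φ ⁻¹ᵁ chart n k j) :
    IsGeneric k {ℓ : Form n k 1 | ∀ x : X, IsClosed ({x} : Set X) → ∀ hx : x ∈ U,
      stalkEqn φ j x (hU hx) ℓ ∉ maximalIdeal (X.presheaf.stalk x) ^ 2} := by
  classical
  let algk : Algebra k Γ(X, U) := (kst g U).toAlgebra
  have hft : Algebra.FiniteType k Γ(X, U) := finiteType_kst g U hUa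
  let w : Fin (n + 1) → Γ(X, U) := fun l => coordU φ j U hU (ProjChart.dehom n k j (MvPolynomial.X l))
  have hw : Ideal.span (Set.range w) = ⊤ := by
    rw [Ideal.eq_top_iff_one]
    refine Ideal.subset_span ⟨j, ?_⟩
    change coordU φ j U hU (ProjChart.dehom n k j (MvPolynomial.X j)) = 1
    rw [ProjChart.dehom_X_self, map_one]
  obtain ⟨F, hF, hF'⟩ := K709.GenLin.exists_poly (k := k) w hw
  refine isGeneric_of_mvPolynomial (linCoords n k) hF fun ℓ hℓ => ?_
  intro x hxc hx hmem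
  have hmax := hUa.primeIdealOf_isMaximal_of_isClosed ⟨x, hx⟩ hxc
  let m : Ideal Γ(X, U) := (hUa.primeIdealOf ⟨x, hx⟩).asIdeal
  refine hF' _ hℓ m hmax ?_
  let algst : Algebra Γ(X, U) (X.presheaf.stalk x) := (X.presheaf.germ U x hx).hom.toAlgebra
  have hloc : IsLocalization.AtPrime (X.presheaf.stalk x) m := hUa.isLocalization_stalk ⟨x, hx⟩
  have hmax' : m.IsMaximal := hmax
  rw [← Groth.Agent.Lefpen.H702.LocAlg.comap_maximalIdeal_pow (O := X.presheaf.stalk x) m 2, Ideal.mem_comap]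
  have h1 : ∑ l, linCoords n k ℓ l • w l = eqn φ j U hU ℓ := by
    rw [eqn_eq, eq_sum_linCoords, map_sum, map_sum]
    refine Finset.sum_congr rfl fun l _ => ?_
    rw [map_mul, map_mul, ProjChart.dehom_C, Algebra.smul_def]
    congr 1
    have h2 := congrArg (fun ψ : k →+* Γ(X, U) => ψ (linCoords n k ℓ l)) (coordU_C φ j U hU)
    subst hφ
    exact h2.symm
  rw [h1]
  have h3 := germ_eqn φ j U hU x hx ℓ
  change (X.presheaf.germ U x hx).hom (eqn φ j U hU ℓ) ∈ _
  rw [h3]
  exact hmem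

/-- **General hyperplane sections have no double points.** -/
theorem generic_good [CharZero k] [IsAlgClosed k] [IsNoetherian X] (g : X ⟶ Spec (CommRingCat.of k))
    [LocallyOfFiniteType g] (hφ : φ ≫ CohB1.ProjSpace.toSpec n k = g) :
    IsGeneric k {ℓ : Form n k 1 | ∀ x : X, IsClosed ({x} : Set X) → ∀ (j : Fin (n + 1))
      (hx : φ x ∈ chart n k j), stalkEqn φ j x hx ℓ ∉ maximalIdeal (X.presheaf.stalk x) ^ 2} := by
  classical
  have hj : ∀ j : Fin (n + 1), IsGeneric k {ℓ : Form n k 1 | ∀ x : X, IsClosed ({x} : Set X) →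
      ∀ (hx : φ x ∈ chart n k j), stalkEqn φ j x hx ℓ ∉ maximalIdeal (X.presheaf.stalk x) ^ 2} := by
    intro j
    have hcpt : IsCompact ((φ ⁻¹ᵁ chart n k j : X.Opens) : Set X) :=
      NoetherianSpace.isCompact _
    let ι := { U : X.affineOpens // U.1 ≤ φ ⁻¹ᵁ chart n k j }
    obtain ⟨t, ht⟩ := hcpt.elim_finite_subcover (fun U : ι => ((U.1.1 : X.Opens) : Set X))
      (fun U => U.1.1.isOpen) (by
        intro x hx
        obtain ⟨U, hU, hxU, hle⟩ := exists_isAffineOpen_mem_and_subset (U := φ ⁻¹ᵁ chart n k j) (x := x) hx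
        exact Set.mem_iUnion.mpr ⟨⟨⟨U, hU⟩, hle⟩, hxU⟩)
    have h1 : IsGeneric k (⋂ U : t, {ℓ : Form n k 1 | ∀ x : X, IsClosed ({x} : Set X) → ∀ hx : x ∈ U.1.1.1,
      stalkEqn φ j x (U.1.2 hx) ℓ ∉ maximalIdeal (X.presheaf.stalk x) ^ 2}) :=
      IsGeneric.iInter fun U => generic_affine φ g hφ j _ U.1.1.2 U.1.2
    refine IsGeneric.mono h1 fun ℓ hℓ x hxc hx => ?_
    obtain ⟨U, hU, hxU⟩ := Set.mem_iUnion₂.mp (ht hx)
    exact Set.mem_iInter.mp hℓ ⟨U, hU⟩ x hxc hxU
  refine IsGeneric.mono (IsGeneric.iInter hj) fun ℓ hℓ x hxc j hx => ?_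
  exact Set.mem_iInter.mp hℓ j x hxc hx

end K709.GenGood
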