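import Groth.Agent.Curves.K319.PnSep
import Groth.Agent.Curves.K709.GenGood

/-!
# Linear forms separate points of projective space
-/

set_option autoImplicit false
universe u

open CategoryTheory CategoryTheory.Limits AlgebraicGeometry TopologicalSpace IsLocalRing

namespace K709.FormSep

open Groth.Agent Groth.Agent.Fdesc.LocGen K319.Setup K319.Base K319.PnSep
open Groth.Agent.Lefpen.H705.ChartPoly Groth.Agent.Lefpen.H705.PointCoord Groth.Agent.Sga5
open Groth.Agent.Lefpen.H705.ClosedPoint LefPen

variable {n : ℕ} {k : Type u} [Field k]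

theorem mem_iff {X : Scheme.{u}} (φ : X ⟶ CohB1.ProjSpace n k) (G : Form n k 1) (j : Fin (n + 1)) (x : X)
    (hx : φ x ∈ LefPen.chart n k j) :
    φ x ∈ (hypIdeal G).support ↔ ¬ IsUnit (coordHom φ j x hx (ProjChart.dehom n k j G.1)) := by
  rw [K709.GenGood.mem_hyp_iff φ G j x hx, stalkEqn_eq, mem_maximalIdeal, mem_nonunits_iff]

/-- Linear forms separate points. -/
theorem exists_form [IsAlgClosed k] (P Q : CohB1.ProjSpace n k) (hP : IsClosed ({P} : Set (CohB1.ProjSpace n k)))
    (hPQ : Q ≠ P) : ∃ G : Form n k 1, P ∈ (hypIdeal G).support ∧ Q ∉ (hypIdeal G).support := by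
  let φ : CohB1.ProjSpace n k ⟶ CohB1.ProjSpace n k := 𝟙 _
  have hlft : LocallyOfFiniteType (φ ≫ CohB1.ProjSpace.toSpec n k) := by
    rw [show φ ≫ CohB1.ProjSpace.toSpec n k = CohB1.ProjSpace.toSpec n k from Category.id_comp _]
    infer_instance
  have hid : ∀ x : CohB1.ProjSpace n k, φ x = x := fun x => rfl
  have hcl : IsClosedImmersion φ := inferInstance
  obtain ⟨j, hj⟩ := exists_chart (φ P)
  obtain ⟨a, ha⟩ := exists_coords φ j P hj hP
  by_contra hcon
  push Not at hcon
  have hPl : ∀ l, P ∈ (hypIdeal (lf j l (a l))).support := by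
    intro l
    have h := (mem_iff φ (lf j l (a l)) j P hj).mpr (by
      rw [dehom_lf]
      exact (mem_maximalIdeal _).mp (ha l))
    exact h
  have hQl : ∀ l, Q ∈ (hypIdeal (lf j l (a l))).support := fun l => hcon _ (hPl l)
  by_cases hQj : φ Q ∈ LefPen.chart n k j
  · apply hPQ
    have h1 : ∀ l, coordHom φ j Q hQj (MvPolynomial.X l - MvPolynomial.C (a l)) ∈
        maximalIdeal ((CohB1.ProjSpace n k).presheaf.stalk Q) := by
      intro l
      have := (mem_iff φ (lf j l (a l)) j Q hQj).mp (hQl l)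
      rw [dehom_lf] at this
      exact (mem_maximalIdeal _).mpr this
    have e1 := eq_span_of_mem a ((maximalIdeal ((CohB1.ProjSpace n k).presheaf.stalk P)).comap (coordHom φ j P hj))
      (Ideal.IsPrime.ne_top inferInstance) ha
    have e2 := eq_span_of_mem a ((maximalIdeal ((CohB1.ProjSpace n k).presheaf.stalk Q)).comap (coordHom φ j Q hQj))
      (Ideal.IsPrime.ne_top inferInstance) h1
    have e3 : (maximalIdeal ((CohB1.ProjSpace n k).presheaf.stalk P)).comap (chartStalk φ j P hj) =
        (maximalIdeal ((CohB1.ProjSpace n k).presheaf.stalk Q)).comap (chartStalk φ j Q hQj) := by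
      have h2 := e1.trans e2.symm
      rw [coordHom_eq, coordHom_eq, ← Ideal.comap_comap, ← Ideal.comap_comap] at h2
      exact Ideal.comap_injective_of_surjective _ (polyToChart_bijective j).2 h2
    apply φ.isClosedEmbedding.injective
    have hU := CurvesC.ProjSpaceBasic.isAffineOpen_Dp n k j
    have e4 : ∀ (x : CohB1.ProjSpace n k) (hx : φ x ∈ LefPen.chart n k j),
        (hU.primeIdealOf ⟨φ x, hx⟩).asIdeal =
          (maximalIdeal ((CohB1.ProjSpace n k).presheaf.stalk x)).comap (chartStalk φ j x hx) := by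
      intro x hx
      rw [chartStalk, ← Ideal.comap_comap]
      have h3 : (maximalIdeal ((CohB1.ProjSpace n k).presheaf.stalk x)).comap (φ.stalkMap x).hom =
          maximalIdeal ((CohB1.ProjSpace n k).presheaf.stalk (φ x)) :=
        IsLocalRing.eq_maximalIdeal (Ideal.comap_isMaximal_of_surjective _ (φ.stalkMap_surjective x))
      rw [h3]
      let _ := (CohB1.ProjSpace n k).presheaf.algebra_section_stalk
        (⟨φ x, hx⟩ : CurvesC.ProjSpaceBasic.Dp n k j)
      have hloc : IsLocalization.AtPrime ((CohB1.ProjSpace n k).presheaf.stalk (φ x))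
          (hU.primeIdealOf ⟨φ x, hx⟩).asIdeal := hU.isLocalization_stalk ⟨φ x, hx⟩
      exact (IsLocalization.AtPrime.under_maximalIdeal ((CohB1.ProjSpace n k).presheaf.stalk (φ x))
        (hU.primeIdealOf ⟨φ x, hx⟩).asIdeal).symm
    have e5 : hU.primeIdealOf ⟨φ Q, hQj⟩ = hU.primeIdealOf ⟨φ P, hj⟩ := by
      apply PrimeSpectrum.ext
      rw [e4, e4, e3]
    have e6 := congrArg (fun p => hU.fromSpec p) e5
    simpa only [hU.fromSpec_primeIdealOf] using e6
  · obtain ⟨m, hm⟩ := exists_chart (φ Q)
    have hmj : m ≠ j := by rintro rfl; exact hQj hm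
    obtain ⟨l, rfl⟩ := Fin.exists_succAbove_eq hmj
    refine (mem_iff φ (lf j l (a l)) _ Q hm).mp (hQl l) ?_
    obtain ⟨l', hl'⟩ := Fin.exists_succAbove_eq hmj.symm
    have h1 : ProjChart.dehom n k (j.succAbove l) (lf j l (a l)).1 =
        1 - MvPolynomial.C (a l) * MvPolynomial.X l' := by
      rw [lf, map_sub, map_mul, ProjChart.dehom_X_self, ProjChart.dehom_C, dehom_X_of_eq hl']
    rw [h1, map_sub, map_one, map_mul]
    have h2 : ¬ IsUnit (coordHom φ (j.succAbove l) Q hm (MvPolynomial.X l')) := by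
      intro hu
      apply hQj
      refine mem_chart_of_isUnit φ _ j Q hm ?_
      rw [dehom_X_of_eq hl']
      exact hu
    have h4 := (mem_maximalIdeal _).mpr h2
    have h5 := Ideal.mul_mem_left _ (coordHom φ (j.succAbove l) Q hm (MvPolynomial.C (a l))) h4
    exact IsLocalRing.isUnit_one_sub_self_of_mem_nonunits _ ((mem_maximalIdeal _).mp h5)

end K709.FormSep
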