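import Groth.Agent.Fdesc.LocGenTensor
import Groth.Agent.CohqA.BasisHom

/-!
# Morphisms out of a module with local generators
-/

set_option autoImplicit false
universe u

open CategoryTheory AlgebraicGeometry Limits TopologicalSpace Opposite

namespace K709.GenHom

open Groth.Agent.Fdesc.LocGen

variable {X : Scheme.{u}}

/-- A module with local generators `e i` on a cover: sections `n i` of another module with the same transition
functions define a morphism. -/
theorem exists_hom {M N : X.Modules} {ι : Type*} (U : ι → X.Opens) (hU : ⨆ i, U i = ⊤) (e : ∀ i, Γ(M, U i))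
    (he : ∀ i, IsGen (e i)) (n : ∀ i, Γ(N, U i))
    (hc : ∀ i j, ∃ c : Γ(X, U i ⊓ U j), res M inf_le_left (e i) = c • res M inf_le_right (e j) ∧
      res N inf_le_left (n i) = c • res N inf_le_right (n j)) :
    ∃ ψ : M ⟶ N, ∀ i, ψ.app (U i) (e i) = n i := by
  classical
  let ι' : Type u := { V : X.Opens // ∃ i, V ≤ U i }
  let B : ι' → X.Opens := fun V => V.1
  have hB : Opens.IsBasis (Set.range B) := by
    rw [Opens.isBasis_iff_nbhd]
    intro W x hx
    obtain ⟨i, hi⟩ := Opens.mem_iSup.mp (hU.ge (show x ∈ (⊤ : X.Opens) from trivial))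
    exact ⟨W ⊓ U i, ⟨⟨W ⊓ U i, i, inf_le_right⟩, rfl⟩, ⟨hx, hi⟩, inf_le_left⟩
  let t : ι' → ι := fun V => V.2.choose
  have ht : ∀ V : ι', V.1 ≤ U (t V) := fun V => V.2.choose_spec
  let E : ∀ V : ι', Γ(X, V.1) ≃ₗ[Γ(X, V.1)] Γ(M, V.1) := fun V =>
    LinearEquiv.ofBijective (LinearMap.toSpanSingleton _ _ (res M (ht V) (e (t V)))) (he (t V) V.1 (ht V))
  have hE : ∀ (V : ι') (m : Γ(M, V.1)), (E V).symm m • res M (ht V) (e (t V)) = m := fun V m =>
    (E V).apply_symm_apply m
  let φ : ∀ V : ι', Γ(M, B V) →+ Γ(N, B V) := fun V =>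
    { toFun := fun m => (E V).symm m • res N (ht V) (n (t V))
      map_zero' := by rw [map_zero, zero_smul]
      map_add' := fun x y => by rw [map_add, add_smul] }
  have hφ : ∀ (V : ι') (m : Γ(M, B V)), φ V m = (E V).symm m • res N (ht V) (n (t V)) := fun _ _ => rfl
  -- characterization by any index
  have key : ∀ (V : ι') (j : ι) (hj : V.1 ≤ U j) (a : Γ(X, V.1)),
      φ V (a • res M hj (e j)) = a • res N hj (n j) := by
    intro V j hj a
    obtain ⟨c, hc1, hc2⟩ := hc j (t V)
    have hle : V.1 ≤ U j ⊓ U (t V) := le_inf hj (ht V)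
    have h1 := congrArg (res M hle) hc1
    have h2 := congrArg (res N hle) hc2
    rw [res_res, res_smul, res_res] at h1 h2
    rw [h1, h2, smul_smul, smul_smul, hφ]
    congr 1
    apply (E V).injective
    rw [(E V).apply_symm_apply]
    rfl
  obtain ⟨ψ, hψ⟩ := Groth.Agent.CohqA.BasisHom.exists_hom_of_basis (M := M) (N := N) B hB φ (by
    intro V W h m
    change φ V (res M h m) = res N h (φ W m)
    conv_lhs => rw [← hE W m]
    rw [res_smul, res_res, key V (t W) (h.trans (ht W)), hφ, res_smul, res_res]) (by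
    intro V r m
    rw [hφ, hφ, map_smul, smul_eq_mul, mul_smul])
  refine ⟨ψ, fun i => ?_⟩
  have h1 := hψ ⟨U i, i, le_rfl⟩ (e i)
  refine h1.trans ?_
  have h2 := key ⟨U i, i, le_rfl⟩ i le_rfl 1
  rw [one_smul, one_smul, res_refl, res_refl] at h2
  exact h2

end K709.GenHom
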