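import Groth.Agent.Curves.K330.FormSec
import Groth.Prelude.Def_W4c3multigrregularBiProj
import Groth.Agent.Fdesc.LocGenTensor

/-!
# Local generators of `O(-1)` on projective space and of `O(-1, 0)`, `O(0, -1)` on a product
-/

set_option autoImplicit false
universe u

open CategoryTheory AlgebraicGeometry Limits TopologicalSpace Opposite

namespace K709.NegTwist

open LefPen Groth.Agent.Fdesc.LocGen Groth.Agent.Lefpen.H705.HypIdeal Groth.Agent.Lefpen.H705.SecIdeal
open Groth.Agent.FormalB K330.FormSec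

variable {n : ℕ} {k : Type u} [Field k]

/-- The coordinate forms. -/
noncomputable abbrev T (n : ℕ) (k : Type u) [Field k] (j : Fin (n + 1)) : Form n k 1 :=
  ⟨MvPolynomial.X j, LefPen.X_mem n k j⟩

theorem exists_gen_neg_aux (j : Fin (n + 1)) (e : ℤ) (h : ((1 : ℕ) : ℤ) * (-1) = e) :
    ∃ g : Γ(Twist.twistProjSpace n k e, chart n k j), IsGen g ∧
      ∀ x : chart n k j, algebraMap (MvPolynomial (Fin (n + 1)) k) (Twist.Loc (CohB1.polyGrading n k) x.1)
        (MvPolynomial.X j) * tv g x = 1 := by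
  subst h
  refine ⟨TwistGen.gen (X_mem n k j) (-1) _ le_rfl, TwistGen.isGen_gen _ _ _ le_rfl, fun x => ?_⟩
  have h1 := TwistGen.pw_eq_mul (𝒜 := CohB1.polyGrading n k) (MvPolynomial.X j) (-1) x.1 x.2
  have h2 : (-(-1 : ℤ)).toNat = 1 := by decide
  have h3 : (-1 : ℤ).toNat = 0 := by decide
  rw [h2, h3, pow_one, pow_zero, map_one] at h1
  exact h1

theorem tv_res {e : ℤ} {U V : (CohB1.ProjSpace n k).Opens} (h : V ≤ U) (t : Γ(Twist.twistProjSpace n k e, U))
    (x : V) : tv (res _ h t) x = tv t ⟨x.1, h x.2⟩ := rfl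

theorem isUnit_algebraMap (j : Fin (n + 1)) (x : chart n k j) :
    IsUnit (algebraMap (MvPolynomial (Fin (n + 1)) k) (Twist.Loc (CohB1.polyGrading n k) x.1)
        (MvPolynomial.X j)) :=
  IsLocalization.map_units (Twist.Loc (CohB1.polyGrading n k) x.1)
    (⟨MvPolynomial.X j, x.2⟩ : x.1.asHomogeneousIdeal.toIdeal.primeCompl)

theorem exists_gen_neg : ∃ g : ∀ j : Fin (n + 1), Γ(Twist.twistProjSpace n k (-1), chart n k j),
    (∀ j, IsGen (g j)) ∧ ∀ i j, res _ (inf_le_left : chart n k i ⊓ chart n k j ≤ _) (g i) =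
      ores (inf_le_left : chart n k i ⊓ chart n k j ≤ _) (dehom (T n k j) i) •
        res _ (inf_le_right : chart n k i ⊓ chart n k j ≤ _) (g j) := by
  choose g hg hgv using fun j : Fin (n + 1) => exists_gen_neg_aux (k := k) j (-1) (by norm_num)
  refine ⟨g, hg, fun i j => tv_ext fun x => ?_⟩
  rw [tv_smul, tv_res, tv_res]
  have hi : x.1 ∈ chart n k i := x.2.1
  have hj : x.1 ∈ chart n k j := x.2.2
  have h1 := hgv i ⟨x.1, hi⟩
  have h2 := hgv j ⟨x.1, hj⟩
  have h3 : ((ores (inf_le_left : chart n k i ⊓ chart n k j ≤ _) (dehom (T n k j) i)).1 x).val *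
      algebraMap (MvPolynomial (Fin (n + 1)) k) (Twist.Loc (CohB1.polyGrading n k) x.1) (MvPolynomial.X i ^ 1) =
      algebraMap (MvPolynomial (Fin (n + 1)) k) (Twist.Loc (CohB1.polyGrading n k) x.1) (MvPolynomial.X j) := by
    have h4 : (ores (inf_le_left : chart n k i ⊓ chart n k j ≤ _) (dehom (T n k j) i)).1 x =
        (dehom (T n k j) i).1 ⟨x.1, hi⟩ := rfl
    rw [h4, dehom_val]
    exact mk_mul_algebraMap _ (T n k j).1 ⟨MvPolynomial.X i ^ 1, pow_mem_primeCompl i ⟨x.1, hi⟩ 1⟩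
  rw [pow_one] at h3
  apply (isUnit_algebraMap i ⟨x.1, hi⟩).mul_left_cancel
  refine h1.trans ?_
  rw [← mul_assoc, mul_comm (algebraMap _ _ (MvPolynomial.X i)), h3]
  exact h2.symm

theorem exists_gen_zero_aux (e : ℤ) (he : ((0 : ℕ) : ℤ) = e) :
    ∃ w : Γ(Twist.twistProjSpace n k e, ⊤), IsGen w := by
  subst he
  let o : Form n k 0 := ⟨1, by
    rw [MvPolynomial.mem_homogeneousSubmodule]; exact MvPolynomial.isHomogeneous_one _ _⟩
  refine ⟨glob o, IsGen.of_cover (fun j => chart n k j) (fun j => le_top) iSup_chart.ge fun j => ?_⟩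
  obtain ⟨g, hg, hG⟩ := exists_gen (N := n) (d := 0) (k := k) j
  rw [hG]
  have h1 : dehom o j = 1 := by
    rw [Groth.Agent.Lefpen.H705.ChartPoly.dehom_eq, map_one, map_one]
  rw [h1, one_smul]
  exact hg

theorem exists_gen_zero : ∃ w : Γ(Twist.twistProjSpace n k 0, ⊤), IsGen w := exists_gen_zero_aux 0 rfl

/-- `M` has generators over the preimages of the charts transforming like `1 / T_j`. -/
def HasGens {Q : Scheme.{u}} (M : Q.Modules) (p : Q ⟶ CohB1.ProjSpace n k) : Prop :=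
  ∃ e : ∀ j : Fin (n + 1), Γ(M, p ⁻¹ᵁ chart n k j), (∀ j, IsGen (e j)) ∧
    ∀ i j, res M (inf_le_left : p ⁻¹ᵁ chart n k i ⊓ p ⁻¹ᵁ chart n k j ≤ _) (e i) =
      ores (inf_le_left : p ⁻¹ᵁ chart n k i ⊓ p ⁻¹ᵁ chart n k j ≤ _) (eqn p i (p ⁻¹ᵁ chart n k i) le_rfl (T n k j)) •
        res M (inf_le_right : p ⁻¹ᵁ chart n k i ⊓ p ⁻¹ᵁ chart n k j ≤ _) (e j)

theorem app_ores {P Q : Scheme.{u}} (p : Q ⟶ P) {U V : P.Opens} (h : V ≤ U) (s : Γ(P, U)) :
    p.app V (ores h s) = ores (show p ⁻¹ᵁ V ≤ p ⁻¹ᵁ U from p.preimage_mono h) ((p.appLE U (p ⁻¹ᵁ U) le_rfl).hom s) := by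
  rw [← Scheme.Hom.app_eq_appLE]
  exact congrArg (fun φ => φ.hom s) (p.naturality (homOfLE h).op)

theorem hasGens_pullback {Q : Scheme.{u}} (p : Q ⟶ CohB1.ProjSpace n k) :
    HasGens ((Scheme.Modules.pullback p).obj (Twist.twistProjSpace n k (-1))) p := by
  obtain ⟨g, hg, hrel⟩ := exists_gen_neg (n := n) (k := k)
  refine ⟨fun j => pullSec p (g j), fun j => (hg j).pullSec p, fun i j => ?_⟩
  have h1 := congrArg (pullSec p) (hrel i j)
  rw [pullSec_smul] at h1
  have h2 := res_pullSec p (inf_le_left : chart n k i ⊓ chart n k j ≤ _) (g i)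
  have h3 := res_pullSec p (inf_le_right : chart n k i ⊓ chart n k j ≤ _) (g j)
  refine h2.trans (h1.trans ?_)
  exact congrArg₂ (fun (r : Γ(Q, p ⁻¹ᵁ (chart n k i ⊓ chart n k j))) (m : Γ((Scheme.Modules.pullback p).obj
    (Twist.twistProjSpace n k (-1)), p ⁻¹ᵁ (chart n k i ⊓ chart n k j))) => r • m)
    (app_ores p (inf_le_left : chart n k i ⊓ chart n k j ≤ _) (dehom (T n k j) i)) h3.symm

theorem HasGens.tensor_right {Q : Scheme.{u}} {M N : Q.Modules} {p : Q ⟶ CohB1.ProjSpace n k}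
    (h : HasGens M p) {w : Γ(N, ⊤)} (hw : IsGen w) : HasGens (CohB1.tensorMod M N) p := by
  obtain ⟨e, he, hrel⟩ := h
  refine ⟨fun j => tmul (e j) (res N le_top w), fun j => (he j).tmul (hw.res le_top), fun i j => ?_⟩
  rw [res_tmul, res_tmul, hrel, res_res, res_res, smul_tmul]

theorem HasGens.tensor_left {Q : Scheme.{u}} {M N : Q.Modules} {p : Q ⟶ CohB1.ProjSpace n k}
    (h : HasGens M p) {w : Γ(N, ⊤)} (hw : IsGen w) : HasGens (CohB1.tensorMod N M) p := by
  obtain ⟨e, he, hrel⟩ := h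
  refine ⟨fun j => tmul (res N le_top w) (e j), fun j => (hw.res le_top).tmul (he j), fun i j => ?_⟩
  rw [res_tmul, res_tmul, hrel, res_res, res_res, tmul_smul]

variable (a b : ℕ)

theorem hasGens_lineBundle_left : HasGens (W4c3multigrregular.lineBundle a b k (-1) 0)
    (W4c3multigrregular.biProj.fst a b k) := by
  obtain ⟨w, hw⟩ := exists_gen_zero (n := b) (k := k)
  exact (hasGens_pullback (W4c3multigrregular.biProj.fst a b k)).tensor_right
    (hw.pullTop (W4c3multigrregular.biProj.snd a b k))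

theorem hasGens_lineBundle_right : HasGens (W4c3multigrregular.lineBundle a b k 0 (-1))
    (W4c3multigrregular.biProj.snd a b k) := by
  obtain ⟨w, hw⟩ := exists_gen_zero (n := a) (k := k)
  exact (hasGens_pullback (W4c3multigrregular.biProj.snd a b k)).tensor_left
    (hw.pullTop (W4c3multigrregular.biProj.fst a b k))

end K709.NegTwist
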