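import Groth.Agent.Curves.K709.SepAlg
import Groth.Agent.Curves.K709.GenGood
import Mathlib.AlgebraicGeometry.Morphisms.FormallyUnramified

/-!
# Modules of functions on a finite unramified scheme which separate points
-/

set_option autoImplicit false
universe u

open CategoryTheory AlgebraicGeometry Limits TopologicalSpace Opposite IsLocalRing

namespace K709.SepGeo

open K709.GenGood

variable {C Q : Scheme.{u}}

/-- The closed point of a maximal ideal of an affine open. -/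
theorem exists_point [JacobsonSpace C] {W : C.Opens} (hW : IsAffineOpen W) (n : Ideal Γ(C, W)) (hn : n.IsMaximal) :
    ∃ (x : C) (hx : x ∈ W), IsClosed ({x} : Set C) ∧ x = hW.fromSpec ⟨n, hn.isPrime⟩ ∧
      ∀ s : Γ(C, W), C.presheaf.germ W x hx s ∈ maximalIdeal (C.presheaf.stalk x) ↔ s ∈ n := by
  let P : PrimeSpectrum Γ(C, W) := ⟨n, hn.isPrime⟩
  have hxW : hW.fromSpec P ∈ W := by
    have h := hW.range_fromSpec
    have h2 : hW.fromSpec P ∈ Set.range hW.fromSpec := ⟨P, rfl⟩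
    rw [h] at h2
    exact h2
  refine ⟨hW.fromSpec P, hxW, ?_, rfl, fun s => ?_⟩
  · have h1 := hW.fromSpec.isOpenEmbedding.preimage_closedPoints
    have h2 : P ∈ closedPoints (PrimeSpectrum Γ(C, W)) := by
      rw [mem_closedPoints_iff]
      exact (PrimeSpectrum.isClosed_singleton_iff_isMaximal P).mpr hn
    have h3 : P ∈ hW.fromSpec ⁻¹' closedPoints C := by
      rw [h1]; exact h2
    exact h3
  · rw [mem_maximalIdeal, mem_nonunits_iff]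
    have h1 := Scheme.mem_basicOpen C s (hW.fromSpec P) hxW
    rw [← h1]
    have h2 := hW.fromSpec_preimage_basicOpen s
    have h3 : P ∈ hW.fromSpec ⁻¹ᵁ C.basicOpen s ↔ P ∈ PrimeSpectrum.basicOpen s := by
      rw [h2]; exact Iff.rfl
    have h4 : (hW.fromSpec P ∈ C.basicOpen s) ↔ P ∈ PrimeSpectrum.basicOpen s := h3
    rw [h4, PrimeSpectrum.mem_basicOpen, not_not]

/-- A set of functions on `f⁻¹ V`, closed under sums and multiplication by functions on `V`, containing `1` and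
separating closed points of the fibres, is everything. -/
theorem forall_mem_of_sep {k : Type u} [Field k] [IsAlgClosed k] (g : Q ⟶ Spec (CommRingCat.of k))
    [LocallyOfFiniteType g] (f : C ⟶ Q) [IsFinite f] [FormallyUnramified f]
    (hfib : ∀ y : Q, (f.base ⁻¹' {y}).Finite ∧ (f.base ⁻¹' {y}).ncard ≤ 2)
    (V : Q.Opens) (hV : IsAffineOpen V) (N : Set Γ(C, f ⁻¹ᵁ V)) (h1 : 1 ∈ N)
    (hadd : ∀ s ∈ N, ∀ t ∈ N, s + t ∈ N) (hsmul : ∀ (r : Γ(Q, V)), ∀ s ∈ N, f.app V r * s ∈ N)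
    (hsep : ∀ (x x' : C) (hx : x ∈ f ⁻¹ᵁ V) (hx' : x' ∈ f ⁻¹ᵁ V), IsClosed ({x} : Set C) → IsClosed ({x'} : Set C) →
      f x = f x' → x ≠ x' → ∃ s ∈ N, C.presheaf.germ (f ⁻¹ᵁ V) x hx s ∈ maximalIdeal (C.presheaf.stalk x) ∧
        C.presheaf.germ (f ⁻¹ᵁ V) x' hx' s ∉ maximalIdeal (C.presheaf.stalk x')) :
    ∀ s, s ∈ N := by
  have hJ : JacobsonSpace C := LocallyOfFiniteType.jacobsonSpace (f ≫ g)
  have hW : IsAffineOpen (f ⁻¹ᵁ V) := hV.preimage f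
  let algA : Algebra k Γ(Q, V) := (kst g V).toAlgebra
  let algB : Algebra Γ(Q, V) Γ(C, f ⁻¹ᵁ V) := (f.app V).hom.toAlgebra
  let algkB : Algebra k Γ(C, f ⁻¹ᵁ V) := ((f.app V).hom.comp (kst g V)).toAlgebra
  have hst : IsScalarTower k Γ(Q, V) Γ(C, f ⁻¹ᵁ V) := .of_algebraMap_eq fun _ => rfl
  have hft : Algebra.FiniteType k Γ(Q, V) := finiteType_kst g V hV
  have hfin : Module.Finite Γ(Q, V) Γ(C, f ⁻¹ᵁ V) := f.finite_app V hV
  have hunr : Algebra.FormallyUnramified Γ(Q, V) Γ(C, f ⁻¹ᵁ V) := by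
    have h2 := HasRingHomProperty.appLE (P := @FormallyUnramified) f inferInstance ⟨V, hV⟩ ⟨f ⁻¹ᵁ V, hW⟩ le_rfl
    rw [← Scheme.Hom.app_eq_appLE] at h2
    exact h2
  let N' : Submodule Γ(Q, V) Γ(C, f ⁻¹ᵁ V) :=
    { carrier := N
      add_mem' := fun {a b} ha hb => hadd a ha b hb
      zero_mem' := by
        have h3 := hsmul 0 1 h1
        rw [map_zero, zero_mul] at h3
        exact h3
      smul_mem' := fun r s hs => hsmul r s hs }
  have hfx : ∀ (n : Ideal Γ(C, f ⁻¹ᵁ V)) (hn : n.IsMaximal), f (hW.fromSpec ⟨n, hn.isPrime⟩) =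
      hV.fromSpec (PrimeSpectrum.comap (algebraMap Γ(Q, V) Γ(C, f ⁻¹ᵁ V)) ⟨n, hn.isPrime⟩) := by
    intro n hn
    have h4 := IsAffineOpen.SpecMap_appLE_fromSpec f hV hW le_rfl
    rw [← Scheme.Hom.app_eq_appLE] at h4
    exact (congrArg (fun φ : Spec _ ⟶ Q => φ (⟨n, hn.isPrime⟩ : PrimeSpectrum Γ(C, f ⁻¹ᵁ V))) h4).symm
  have hfx' : ∀ (n₁ n₂ : Ideal Γ(C, f ⁻¹ᵁ V)) (hn₁ : n₁.IsMaximal) (hn₂ : n₂.IsMaximal),
      n₁.comap (algebraMap Γ(Q, V) Γ(C, f ⁻¹ᵁ V)) = n₂.comap (algebraMap Γ(Q, V) Γ(C, f ⁻¹ᵁ V)) →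
      f (hW.fromSpec ⟨n₁, hn₁.isPrime⟩) = f (hW.fromSpec ⟨n₂, hn₂.isPrime⟩) := by
    intro n₁ n₂ hn₁ hn₂ h
    rw [hfx n₁ hn₁, hfx n₂ hn₂]
    congr 1
    exact PrimeSpectrum.ext h
  have htop := K709.SepAlg.eq_top_of_sep k N' h1 (by
    intro n₁ n₂ n₃ hn₁ hn₂ hn₃ h12 h23
    by_contra hcon
    push Not at hcon
    obtain ⟨hne12, hne13, hne23⟩ := hcon
    have hinj := hW.fromSpec.isOpenEmbedding.injective
    let x₁ := hW.fromSpec (⟨n₁, hn₁.isPrime⟩ : PrimeSpectrum Γ(C, f ⁻¹ᵁ V))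
    let x₂ := hW.fromSpec (⟨n₂, hn₂.isPrime⟩ : PrimeSpectrum Γ(C, f ⁻¹ᵁ V))
    let x₃ := hW.fromSpec (⟨n₃, hn₃.isPrime⟩ : PrimeSpectrum Γ(C, f ⁻¹ᵁ V))
    have e12 : x₁ ≠ x₂ := fun h => hne12 (congrArg PrimeSpectrum.asIdeal (hinj h))
    have e13 : x₁ ≠ x₃ := fun h => hne13 (congrArg PrimeSpectrum.asIdeal (hinj h))
    have e23 : x₂ ≠ x₃ := fun h => hne23 (congrArg PrimeSpectrum.asIdeal (hinj h))
    have f12 : f x₁ = f x₂ := hfx' n₁ n₂ hn₁ hn₂ h12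
    have f23 : f x₂ = f x₃ := hfx' n₂ n₃ hn₂ hn₃ h23
    obtain ⟨hF, hc⟩ := hfib (f x₃)
    have h5 : ({x₁, x₂, x₃} : Set C) ⊆ f.base ⁻¹' {f x₃} := by
      rintro z (rfl | rfl | rfl)
      · exact f12.trans f23
      · exact f23
      · rfl
    have h6 := Set.ncard_le_ncard h5 hF
    have h7 : ({x₁, x₂, x₃} : Set C).ncard = 3 := by
      rw [Set.ncard_eq_three]
      exact ⟨x₁, x₂, x₃, e12, e13, e23, rfl⟩
    omega) (by
    intro n₁ n₂ hn₁ hn₂ h12 hne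
    obtain ⟨x₁, hx₁, hc₁, he₁, hg₁⟩ := exists_point hW n₁ hn₁
    obtain ⟨x₂, hx₂, hc₂, he₂, hg₂⟩ := exists_point hW n₂ hn₂
    have hne' : x₁ ≠ x₂ := by
      intro h
      rw [he₁, he₂] at h
      exact hne (congrArg PrimeSpectrum.asIdeal (hW.fromSpec.isOpenEmbedding.injective h))
    have hf' : f x₁ = f x₂ := by rw [he₁, he₂]; exact hfx' n₁ n₂ hn₁ hn₂ h12
    obtain ⟨s, hs, hs1, hs2⟩ := hsep x₁ x₂ hx₁ hx₂ hc₁ hc₂ hf' hne'
    exact ⟨s, hs, (hg₁ s).mp hs1, fun h => hs2 ((hg₂ s).mpr h)⟩)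
  intro s
  have h8 : s ∈ N' := by rw [htop]; trivial
  exact h8

end K709.SepGeo
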