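import Groth.Agent.Curves.K709.LinProj
import Groth.Agent.Curves.K709.NegTwist
import Groth.Agent.Curves.K709.GenHom
import Groth.Agent.Curves.K709.SepGeo
import Groth.Agent.Curves.K709.FormSep
import Groth.Agent.PerfB.ModExact

/-!
# The epimorphism onto the direct image of a curve under a good projection
-/

set_option autoImplicit false
universe u

open CategoryTheory AlgebraicGeometry Limits TopologicalSpace Opposite

namespace K709.EpiProj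

open LefPen Groth.Agent.Fdesc.LocGen Groth.Agent.Lefpen.H705.HypIdeal Groth.Agent.Lefpen.H705.SecIdeal
open Groth.Agent.CurvesB.HZero IsLocalRing
open K709.HypSpan K709.LinProj K709.NegTwist

variable {n : ℕ} {k : Type u} [Field k] {C Q : Scheme.{u}} (f : C ⟶ Q)

/-- A function on `f⁻¹ U` as a section of `f_* O_C`. -/
noncomputable def toP (U : Q.Opens) (s : Γ(C, f ⁻¹ᵁ U)) : Γ((Coh.push f).obj (Coh.structureModule C), U) := s

theorem toP_smul (U : Q.Opens) (a : Γ(Q, U)) (s : Γ(C, f ⁻¹ᵁ U)) :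
    a • toP f U s = toP f U (f.app U a * s) := rfl

theorem toP_add (U : Q.Opens) (s t : Γ(C, f ⁻¹ᵁ U)) : toP f U s + toP f U t = toP f U (s + t) := rfl

theorem res_toP {U V : Q.Opens} (h : V ≤ U) (s : Γ(C, f ⁻¹ᵁ U)) :
    res _ h (toP f U s) = toP f V (ores (f.preimage_mono h) s) := rfl

theorem eqn_comp (p : Q ⟶ CohB1.ProjSpace n k) (j : Fin (n + 1)) (G : Form n k 1) :
    f.app (p ⁻¹ᵁ chart n k j) (eqn p j (p ⁻¹ᵁ chart n k j) le_rfl G) =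
      eqn (f ≫ p) j ((f ≫ p) ⁻¹ᵁ chart n k j) le_rfl G := by
  rw [eqn, eqn, ← Scheme.Hom.app_eq_appLE, ← Scheme.Hom.app_eq_appLE, Scheme.Hom.comp_app]
  rfl

/-- The homomorphism given by a linear form. -/
theorem exists_hom_ratio [IsAlgClosed k] [C.Over (Spec (CommRingCat.of k))] [IsReduced C]
    [LocallyOfFiniteType (C ↘ Spec (CommRingCat.of k))]
    {φ : C ⟶ CohB1.ProjSpace n k} (hφ : φ ≫ CohB1.ProjSpace.toSpec n k = C ↘ Spec (CommRingCat.of k))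
    (p : Q ⟶ CohB1.ProjSpace 1 k) (hψ : (f ≫ p) ≫ CohB1.ProjSpace.toSpec 1 k = C ↘ Spec (CommRingCat.of k))
    {L : Fin 2 → Form n k 1} (H : IsProjn φ (f ≫ p) L) {M : Q.Modules}
    (e : ∀ j : Fin 2, Γ(M, p ⁻¹ᵁ chart 1 k j)) (he : ∀ j, IsGen (e j))
    (hrel : ∀ i j, res M (inf_le_left : p ⁻¹ᵁ chart 1 k i ⊓ p ⁻¹ᵁ chart 1 k j ≤ _) (e i) =
      ores (inf_le_left : p ⁻¹ᵁ chart 1 k i ⊓ p ⁻¹ᵁ chart 1 k j ≤ _)
        (eqn p i (p ⁻¹ᵁ chart 1 k i) le_rfl (NegTwist.T 1 k j)) •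
        res M (inf_le_right : p ⁻¹ᵁ chart 1 k i ⊓ p ⁻¹ᵁ chart 1 k j ≤ _) (e j)) (ℓ : Form n k 1) :
    ∃ h : M ⟶ (Coh.push f).obj (Coh.structureModule C),
      ∀ j, h.app (p ⁻¹ᵁ chart 1 k j) (e j) = toP f (p ⁻¹ᵁ chart 1 k j) (ratio H j ℓ) := by
  refine K709.GenHom.exists_hom (fun j : Fin 2 => p ⁻¹ᵁ chart 1 k j) ?_ e he
    (fun j => toP f (p ⁻¹ᵁ chart 1 k j) (ratio H j ℓ)) fun i j => ⟨_, hrel i j, ?_⟩
  · exact Groth.Agent.Lefpen.H708.Geo.iSup_preimage_chart p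
  · rw [res_toP, res_toP, toP_smul]
    congr 1
    have h1 := ratio_overlap H i j ℓ
    have h2 := ratio_L hφ hψ H i j
    have h3 := app_ores f (inf_le_left : p ⁻¹ᵁ chart 1 k i ⊓ p ⁻¹ᵁ chart 1 k j ≤ _)
      (eqn p i (p ⁻¹ᵁ chart 1 k i) le_rfl (NegTwist.T 1 k j))
    rw [← Scheme.Hom.app_eq_appLE] at h3
    have h4 := eqn_comp f p i (NegTwist.T 1 k j)
    rw [h2] at h1
    refine Eq.trans h1 (congrArg₂ (· * ·) ?_ rfl)
    refine Eq.trans ?_ h3.symm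
    exact congrArg _ h4.symm

end K709.EpiProj
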