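import Groth.Agent.Curves.K709.EpiProj
import Groth.Prelude.Def_ClSub2

/-!
# Surjectivity of the map onto the direct image under a good projection
-/

set_option autoImplicit false
universe u

open CategoryTheory AlgebraicGeometry Limits TopologicalSpace Opposite

namespace K709.EpiProj

open LefPen Groth.Agent.Fdesc.LocGen Groth.Agent.Lefpen.H705.HypIdeal Groth.Agent.Lefpen.H705.SecIdeal
open Groth.Agent.CurvesB.HZero IsLocalRing
open K709.HypSpan K709.LinProj K709.NegTwist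

variable {n : ℕ} {k : Type u} [Field k] {C Q : Scheme.{u}} (f : C ⟶ Q)

theorem ores_gl [C.Over (Spec (CommRingCat.of k))] (g : Q ⟶ Spec (CommRingCat.of k))
    (hg : f ≫ g = C ↘ Spec (CommRingCat.of k)) (V : Q.Opens) (c : k) :
    ∃ r : Γ(Q, V), f.app V r = ores (le_top : f ⁻¹ᵁ V ≤ ⊤) (gl k C c) := by
  refine ⟨ores le_top (g.appTop ((Scheme.ΓSpecIso (CommRingCat.of k)).inv.hom c)), ?_⟩
  rw [app_ores, ← Scheme.Hom.app_eq_appLE]
  congr 1
  have h1 : (C ↘ Spec (CommRingCat.of k)).appTop = g.appTop ≫ f.appTop := by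
    rw [← hg, Scheme.Hom.comp_appTop]
  change (f.appTop).hom ((g.appTop).hom _) = ((C ↘ Spec (CommRingCat.of k)).appTop).hom _
  rw [h1]
  rfl

section Sep

variable [C.Over (Spec (CommRingCat.of k))] {φ : C ⟶ CohB1.ProjSpace n k}
  (hφ : φ ≫ CohB1.ProjSpace.toSpec n k = C ↘ Spec (CommRingCat.of k))
  (g : Q ⟶ Spec (CommRingCat.of k)) (hg : f ≫ g = C ↘ Spec (CommRingCat.of k))
  (p : Q ⟶ CohB1.ProjSpace 1 k) {L : Fin 2 → Form n k 1} (H : IsProjn φ (f ≫ p) L)

include hφ hg in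
theorem forall_ratio_mem (i : Fin 2) (V : Q.Opens) (hV : V ≤ p ⁻¹ᵁ chart 1 k i) (N : Set Γ(C, f ⁻¹ᵁ V))
    (h1 : 1 ∈ N) (hadd : ∀ s ∈ N, ∀ t ∈ N, s + t ∈ N)
    (hsmul : ∀ (r : Γ(Q, V)), ∀ s ∈ N, f.app V r * s ∈ N) (S : Set (Form n k 1))
    (hS : Submodule.span k S = ⊤)
    (hSN : ∀ ℓ ∈ S, ores (show f ⁻¹ᵁ V ≤ (f ≫ p) ⁻¹ᵁ chart 1 k i from f.preimage_mono hV) (ratio H i ℓ) ∈ N)
    (ℓ : Form n k 1) :
    ores (show f ⁻¹ᵁ V ≤ (f ≫ p) ⁻¹ᵁ chart 1 k i from f.preimage_mono hV) (ratio H i ℓ) ∈ N := by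
  have hℓ : ℓ ∈ Submodule.span k S := by rw [hS]; trivial
  have hsm : ∀ (c : k) (ℓ : Form n k 1),
      ores (show f ⁻¹ᵁ V ≤ (f ≫ p) ⁻¹ᵁ chart 1 k i from f.preimage_mono hV) (ratio H i ℓ) ∈ N →
      ores (show f ⁻¹ᵁ V ≤ (f ≫ p) ⁻¹ᵁ chart 1 k i from f.preimage_mono hV) (ratio H i (c • ℓ)) ∈ N := by
    intro c ℓ h
    obtain ⟨r, hr⟩ := ores_gl f g hg V c
    rw [ratio_smul hφ, map_mul, ores_ores, ← hr]
    exact hsmul r _ h
  induction hℓ using Submodule.span_induction with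
  | mem x hx => exact hSN x hx
  | zero =>
    obtain ⟨s, hs⟩ : S.Nonempty ∨ S = ∅ := by
      by_cases h : S.Nonempty
      · exact Or.inl h
      · exact Or.inr (Set.not_nonempty_iff_eq_empty.mp h)
    · have := hsm 0 s (hSN s hs)
      rwa [zero_smul] at this
    · have h2 : ratio H i (0 : Form n k 1) = 0 := by
        have := ratio_add H i (0 : Form n k 1) 0
        rw [add_zero] at this
        exact left_eq_add.mp this
      rw [h2, map_zero]
      have := hsmul 0 1 h1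
      rwa [map_zero, zero_mul] at this
  | add x y _ _ hx hy =>
    rw [ratio_add, map_add]
    exact hadd _ hx _ hy
  | smul c x _ hx => exact hsm c x hx

end Sep

/-- A closed point of `C` maps to a closed point of projective space. -/
theorem isClosed_image [C.Over (Spec (CommRingCat.of k))] [IsProper (C ↘ Spec (CommRingCat.of k))]
    (φ : C ⟶ CohB1.ProjSpace n k) (hφ : φ ≫ CohB1.ProjSpace.toSpec n k = C ↘ Spec (CommRingCat.of k))
    (x : C) (hx : IsClosed ({x} : Set C)) : IsClosed ({φ x} : Set (CohB1.ProjSpace n k)) := by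
  have h1 : IsProper (φ ≫ CohB1.ProjSpace.toSpec n k) := by rw [hφ]; infer_instance
  have h2 : IsProper φ := IsProper.of_comp φ (CohB1.ProjSpace.toSpec n k)
  have h3 := φ.isClosedMap _ hx
  rwa [Set.image_singleton] at h3

/-- Two closed points with the same images in both factors coincide. -/
theorem eq_of_images [IsAlgClosed k] [C.Over (Spec (CommRingCat.of k))]
    [LocallyOfFiniteType (C ↘ Spec (CommRingCat.of k))] {a b : ℕ}
    (i : C ⟶ W4c3multigrregular.biProj a b k) [Mono i]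
    (hi : i ≫ W4c3multigrregular.biProj.toSpec a b k = C ↘ Spec (CommRingCat.of k)) (x x' : C)
    (hx : IsClosed ({x} : Set C)) (hx' : IsClosed ({x'} : Set C))
    (h1 : (i ≫ W4c3multigrregular.biProj.fst a b k) x = (i ≫ W4c3multigrregular.biProj.fst a b k) x')
    (h2 : (i ≫ W4c3multigrregular.biProj.snd a b k) x = (i ≫ W4c3multigrregular.biProj.snd a b k) x') :
    x = x' := by
  let g := C ↘ Spec (CommRingCat.of k)
  let s := pointOfClosedPoint g x hx
  let s' := pointOfClosedPoint g x' hx'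
  have hs : s ≫ g = 𝟙 _ := pointOfClosedPoint_comp g x hx
  have hs' : s' ≫ g = 𝟙 _ := pointOfClosedPoint_comp g x' hx'
  have hsx : s (IsLocalRing.closedPoint k) = x := pointOfClosedPoint_apply g x hx _
  have hsx' : s' (IsLocalRing.closedPoint k) = x' := pointOfClosedPoint_apply g x' hx' _
  have hφ₁ : (i ≫ W4c3multigrregular.biProj.fst a b k) ≫ CohB1.ProjSpace.toSpec a k = g := by
    rw [Category.assoc]; exact hi
  have hφ₂ : (i ≫ W4c3multigrregular.biProj.snd a b k) ≫ CohB1.ProjSpace.toSpec b k = g := by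
    rw [Category.assoc, ← pullback.condition]; exact hi
  have e1 : s ≫ (i ≫ W4c3multigrregular.biProj.fst a b k) = s' ≫ (i ≫ W4c3multigrregular.biProj.fst a b k) := by
    refine ext_of_apply_closedPoint_eq (CohB1.ProjSpace.toSpec a k) ?_ ?_ ?_
    · rw [Category.assoc, hφ₁, hs]
    · rw [Category.assoc, hφ₁, hs']
    · rw [Scheme.Hom.comp_apply, Scheme.Hom.comp_apply s', hsx, hsx', h1]
  have e2 : s ≫ (i ≫ W4c3multigrregular.biProj.snd a b k) = s' ≫ (i ≫ W4c3multigrregular.biProj.snd a b k) := by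
    refine ext_of_apply_closedPoint_eq (CohB1.ProjSpace.toSpec b k) ?_ ?_ ?_
    · rw [Category.assoc, hφ₂, hs]
    · rw [Category.assoc, hφ₂, hs']
    · rw [Scheme.Hom.comp_apply, Scheme.Hom.comp_apply s', hsx, hsx', h2]
  have e3 : s ≫ i = s' ≫ i := by
    apply pullback.hom_ext
    · rw [Category.assoc, Category.assoc]; exact e1
    · rw [Category.assoc, Category.assoc]; exact e2
  have e4 : s = s' := by rwa [cancel_mono] at e3
  rw [← hsx, ← hsx', e4]

end K709.EpiProj
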