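import Groth.Agent.Curves.K709.EpiProj2

/-!
# The epimorphism `O(-1,0)^(a-1) + O(0,-1)^(b-1) + O → f_* O_C`
-/

set_option autoImplicit false
universe u

open CategoryTheory AlgebraicGeometry Limits TopologicalSpace Opposite

namespace K709.EpiProj

open LefPen Groth.Agent.Fdesc.LocGen Groth.Agent.Lefpen.H705.HypIdeal Groth.Agent.Lefpen.H705.SecIdeal
open Groth.Agent.CurvesB.HZero IsLocalRing
open K709.HypSpan K709.LinProj K709.NegTwist

variable {k : Type u} [Field k]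

/-- Completing two independent linear forms to a spanning family. -/
theorem exists_compl {n : ℕ} (L : Fin 2 → Form n k 1) (hL : LinearIndependent k L) :
    ∃ lam : Fin (n - 1) → Form n k 1, Submodule.span k (Set.range L ∪ Set.range lam) = ⊤ := by
  have hfin : Module.Finite k (Form n k 1) :=
    Module.Finite.equiv (Groth.Agent.Lefpen.H702.PolyFun.linCoords n k).symm
  have hrank : Module.finrank k (Form n k 1) = n + 1 := by
    rw [(Groth.Agent.Lefpen.H702.PolyFun.linCoords n k).finrank_eq, Module.finrank_fin_fun]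
  let W := Submodule.span k (Set.range L)
  have hW : Module.finrank k W = 2 := by
    rw [finrank_span_eq_card hL, Fintype.card_fin]
  have hq : Module.finrank k (Form n k 1 ⧸ W) = n - 1 := by
    have h1 := Submodule.finrank_quotient_add_finrank W
    omega
  let B : Module.Basis (Fin (n - 1)) k (Form n k 1 ⧸ W) := Module.finBasisOfFinrankEq k _ hq
  choose lam hlam using fun i => W.mkQ_surjective (B i)
  refine ⟨lam, ?_⟩
  rw [eq_top_iff]
  intro v _
  have h1 : W.mkQ v ∈ Submodule.span k (Set.range B) := by rw [B.span_eq]; trivial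
  have h2 : Set.range B = W.mkQ '' Set.range lam := by
    rw [← Set.range_comp]
    exact congrArg Set.range (funext fun i => (hlam i).symm)
  rw [h2, ← Submodule.map_span] at h1
  obtain ⟨w, hw, hwv⟩ := h1
  have h3 : v - w ∈ W := by
    rw [← Submodule.Quotient.mk_eq_zero W]
    change W.mkQ (v - w) = 0
    rw [map_sub, hwv, sub_self]
  rw [Submodule.span_union]
  have h4 : v = (v - w) + w := (sub_add_cancel v w).symm
  rw [h4]
  exact Submodule.add_mem_sup h3 hw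

theorem exists_epi [IsAlgClosed k] {a b : ℕ} {C : Scheme.{u}} [C.Over (Spec (CommRingCat.of k))] [IsReduced C]
    [IsProper (C ↘ Spec (CommRingCat.of k))]
    (i : C ⟶ W4c3multigrregular.biProj a b k) [Mono i]
    (hi : i ≫ W4c3multigrregular.biProj.toSpec a b k = C ↘ Spec (CommRingCat.of k))
    (L₁ : Fin 2 → Form a k 1) (hL₁ : LinearIndependent k L₁)
    (L₂ : Fin 2 → Form b k 1) (hL₂ : LinearIndependent k L₂)
    (f : C ⟶ W4c3multigrregular.biProj 1 1 k)
    (hf : f ≫ W4c3multigrregular.biProj.toSpec 1 1 k = C ↘ Spec (CommRingCat.of k))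
    (H₁ : IsProjn (i ≫ W4c3multigrregular.biProj.fst a b k) (f ≫ W4c3multigrregular.biProj.fst 1 1 k) L₁)
    (H₂ : IsProjn (i ≫ W4c3multigrregular.biProj.snd a b k) (f ≫ W4c3multigrregular.biProj.snd 1 1 k) L₂)
    (hfib : ∀ y : ↥(W4c3multigrregular.biProj 1 1 k), (f.base ⁻¹' {y}).Finite ∧ (f.base ⁻¹' {y}).ncard ≤ 2)
    [IsFinite f] [FormallyUnramified f] :
    ∃ ε : ((∐ fun _ : Fin (a - 1) => W4c3multigrregular.lineBundle 1 1 k (-1) 0) ⨿
            ((∐ fun _ : Fin (b - 1) => W4c3multigrregular.lineBundle 1 1 k 0 (-1)) ⨿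
              Coh.structureModule (W4c3multigrregular.biProj 1 1 k))) ⟶ (Coh.push f).obj (Coh.structureModule C),
      Epi ε := by
  have hφ₁ : (i ≫ W4c3multigrregular.biProj.fst a b k) ≫ CohB1.ProjSpace.toSpec a k =
      C ↘ Spec (CommRingCat.of k) := by
    rw [Category.assoc]; exact hi
  have hφ₂ : (i ≫ W4c3multigrregular.biProj.snd a b k) ≫ CohB1.ProjSpace.toSpec b k =
      C ↘ Spec (CommRingCat.of k) := by
    rw [Category.assoc, ← pullback.condition]; exact hi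
  have hψ₁ : (f ≫ W4c3multigrregular.biProj.fst 1 1 k) ≫ CohB1.ProjSpace.toSpec 1 k =
      C ↘ Spec (CommRingCat.of k) := by
    rw [Category.assoc]; exact hf
  have hψ₂ : (f ≫ W4c3multigrregular.biProj.snd 1 1 k) ≫ CohB1.ProjSpace.toSpec 1 k =
      C ↘ Spec (CommRingCat.of k) := by
    rw [Category.assoc, ← pullback.condition]; exact hf
  obtain ⟨lam₁, hlam₁⟩ := exists_compl L₁ hL₁
  obtain ⟨lam₂, hlam₂⟩ := exists_compl L₂ hL₂
  obtain ⟨e₁, he₁, hrel₁⟩ := hasGens_lineBundle_left (k := k) 1 1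
  obtain ⟨e₂, he₂, hrel₂⟩ := hasGens_lineBundle_right (k := k) 1 1
  choose h₁ hh₁ using exists_hom_ratio f hφ₁ (W4c3multigrregular.biProj.fst 1 1 k) hψ₁ H₁ e₁ he₁ hrel₁
  choose h₂ hh₂ using exists_hom_ratio f hφ₂ (W4c3multigrregular.biProj.snd 1 1 k) hψ₂ H₂ e₂ he₂ hrel₂
  let u : Coh.structureModule (W4c3multigrregular.biProj 1 1 k) ⟶ (Coh.push f).obj (Coh.structureModule C) :=
    homOf (toP f ⊤ 1)
  let ε : ((∐ fun _ : Fin (a - 1) => W4c3multigrregular.lineBundle 1 1 k (-1) 0) ⨿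
            ((∐ fun _ : Fin (b - 1) => W4c3multigrregular.lineBundle 1 1 k 0 (-1)) ⨿
              Coh.structureModule (W4c3multigrregular.biProj 1 1 k))) ⟶ (Coh.push f).obj (Coh.structureModule C) :=
    coprod.desc (Sigma.desc fun l => h₁ (lam₁ l)) (coprod.desc (Sigma.desc fun l => h₂ (lam₂ l)) u)
  have hε₁ : ∀ l, (Sigma.ι (fun _ : Fin (a - 1) => W4c3multigrregular.lineBundle 1 1 k (-1) 0) l ≫ coprod.inl) ≫ ε =
      h₁ (lam₁ l) := by
    intro l
    rw [Category.assoc, coprod.inl_desc, Sigma.ι_desc]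
  have hε₂ : ∀ l, (Sigma.ι (fun _ : Fin (b - 1) => W4c3multigrregular.lineBundle 1 1 k 0 (-1)) l ≫ coprod.inl ≫
      coprod.inr) ≫ ε = h₂ (lam₂ l) := by
    intro l
    rw [Category.assoc, Category.assoc, coprod.inr_desc, coprod.inl_desc, Sigma.ι_desc]
  have hε₀ : (coprod.inr ≫ coprod.inr) ≫ ε = u := by
    rw [Category.assoc, coprod.inr_desc, coprod.inr_desc]
  refine ⟨ε, ?_⟩
  -- surjectivity on small affine opens
  have hsurj : ∀ (ν μ : Fin 2) (V : (W4c3multigrregular.biProj 1 1 k).Opens) (hV : IsAffineOpen V)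
      (hV₁ : V ≤ W4c3multigrregular.biProj.fst 1 1 k ⁻¹ᵁ chart 1 k ν)
      (hV₂ : V ≤ W4c3multigrregular.biProj.snd 1 1 k ⁻¹ᵁ chart 1 k μ) (s : Γ(C, f ⁻¹ᵁ V)),
      ∃ t, ε.app V t = toP f V s := by
    intro ν μ V hV hV₁ hV₂ s
    let N : Set Γ(C, f ⁻¹ᵁ V) := {s | ∃ t, ε.app V t = toP f V s}
    have h1 : (1 : Γ(C, f ⁻¹ᵁ V)) ∈ N := by
      refine ⟨(coprod.inr ≫ coprod.inr : Coh.structureModule (W4c3multigrregular.biProj 1 1 k) ⟶ _).app V
        (one V), ?_⟩
      have h2 := congrArg (fun ψ => ψ.app V (one V)) hε₀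
      have h3 : u.app V (one V) = toP f V 1 := by
        have h4 := sec_homOf (toP f ⊤ 1) V
        have h5 : sec u V = u.app V (one V) := rfl
        rw [← h5]
        refine h4.trans ?_
        rw [res_toP, map_one]
      exact Eq.trans h2 h3
    have hadd : ∀ s ∈ N, ∀ t ∈ N, s + t ∈ N := by
      rintro s ⟨t, ht⟩ s' ⟨t', ht'⟩
      refine ⟨t + t', ?_⟩
      rw [map_add, ht, ht', toP_add]
    have hsmul : ∀ (r : Γ(W4c3multigrregular.biProj 1 1 k, V)), ∀ s ∈ N, f.app V r * s ∈ N := by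
      rintro r s ⟨t, ht⟩
      refine ⟨r • t, ?_⟩
      rw [Scheme.Modules.Hom.app_smul, ht, toP_smul]
    have hN₁ : ∀ ℓ, ores (show f ⁻¹ᵁ V ≤ (f ≫ W4c3multigrregular.biProj.fst 1 1 k) ⁻¹ᵁ chart 1 k ν from
        f.preimage_mono hV₁) (ratio H₁ ν ℓ) ∈ N := by
      refine forall_ratio_mem f hφ₁ _ hf (W4c3multigrregular.biProj.fst 1 1 k) H₁ ν V hV₁ N h1 hadd hsmul _
        hlam₁ ?_
      rintro ℓ (⟨c, rfl⟩ | ⟨l, rfl⟩)
      · rw [ratio_L hφ₁ hψ₁ H₁ ν c, ← eqn_comp f (W4c3multigrregular.biProj.fst 1 1 k) ν (LinProj.T 1 k c)]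
        have h2 := app_ores f hV₁ (eqn (W4c3multigrregular.biProj.fst 1 1 k) ν _ le_rfl (LinProj.T 1 k c))
        rw [← Scheme.Hom.app_eq_appLE] at h2
        have h3 := hsmul (ores hV₁ (eqn (W4c3multigrregular.biProj.fst 1 1 k) ν _ le_rfl (LinProj.T 1 k c))) 1 h1
        rw [mul_one] at h3
        have h4 := congrArg (· ∈ N) h2
        exact h4.mp h3
      · refine ⟨(Sigma.ι (fun _ : Fin (a - 1) => W4c3multigrregular.lineBundle 1 1 k (-1) 0) l ≫
          coprod.inl).app V (res _ hV₁ (e₁ ν)), ?_⟩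
        have h2 := congrArg (fun ψ => ψ.app V (res _ hV₁ (e₁ ν))) (hε₁ l)
        refine Eq.trans h2 ?_
        change (h₁ (lam₁ l)).app V (res _ hV₁ (e₁ ν)) = _
        rw [app_res, hh₁, res_toP]
        rfl
    have hN₂ : ∀ ℓ, ores (show f ⁻¹ᵁ V ≤ (f ≫ W4c3multigrregular.biProj.snd 1 1 k) ⁻¹ᵁ chart 1 k μ from
        f.preimage_mono hV₂) (ratio H₂ μ ℓ) ∈ N := by
      refine forall_ratio_mem f hφ₂ _ hf (W4c3multigrregular.biProj.snd 1 1 k) H₂ μ V hV₂ N h1 hadd hsmul _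
        hlam₂ ?_
      rintro ℓ (⟨c, rfl⟩ | ⟨l, rfl⟩)
      · rw [ratio_L hφ₂ hψ₂ H₂ μ c, ← eqn_comp f (W4c3multigrregular.biProj.snd 1 1 k) μ (LinProj.T 1 k c)]
        have h2 := app_ores f hV₂ (eqn (W4c3multigrregular.biProj.snd 1 1 k) μ _ le_rfl (LinProj.T 1 k c))
        rw [← Scheme.Hom.app_eq_appLE] at h2
        have h3 := hsmul (ores hV₂ (eqn (W4c3multigrregular.biProj.snd 1 1 k) μ _ le_rfl (LinProj.T 1 k c))) 1 h1
        rw [mul_one] at h3
        have h4 := congrArg (· ∈ N) h2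
        exact h4.mp h3
      · refine ⟨(Sigma.ι (fun _ : Fin (b - 1) => W4c3multigrregular.lineBundle 1 1 k 0 (-1)) l ≫
          coprod.inl ≫ coprod.inr).app V (res _ hV₂ (e₂ μ)), ?_⟩
        have h2 := congrArg (fun ψ => ψ.app V (res _ hV₂ (e₂ μ))) (hε₂ l)
        refine Eq.trans h2 ?_
        change (h₂ (lam₂ l)).app V (res _ hV₂ (e₂ μ)) = _
        rw [app_res, hh₂, res_toP]
        rfl
    refine K709.SepGeo.forall_mem_of_sep (k := k) (W4c3multigrregular.biProj.toSpec 1 1 k) f hfib V hV N h1 hadd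
      hsmul ?_ s
    intro x x' hx hx' hxc hxc' hfx hne
    by_cases hc : (i ≫ W4c3multigrregular.biProj.fst a b k) x = (i ≫ W4c3multigrregular.biProj.fst a b k) x'
    · have hc' : (i ≫ W4c3multigrregular.biProj.snd a b k) x' ≠ (i ≫ W4c3multigrregular.biProj.snd a b k) x :=
        fun h => hne (eq_of_images i hi x x' hxc hxc' hc h.symm)
      obtain ⟨G, hG, hG'⟩ := K709.FormSep.exists_form _ _ (isClosed_image _ hφ₂ x hxc) hc'
      refine ⟨_, hN₂ G, ?_, ?_⟩
      · have h2 := (germ_ratio_mem_iff H₂ μ G x (hV₂ hx)).mpr hG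
        have h3 := C.presheaf.germ_res_apply (homOfLE (f.preimage_mono hV₂)) x hx (ratio H₂ μ G)
        exact (congrArg (· ∈ maximalIdeal (C.presheaf.stalk x)) h3).mpr h2
      · intro h4
        apply hG'
        refine (germ_ratio_mem_iff H₂ μ G x' (hV₂ hx')).mp ?_
        have h3 := C.presheaf.germ_res_apply (homOfLE (f.preimage_mono hV₂)) x' hx' (ratio H₂ μ G)
        exact (congrArg (· ∈ maximalIdeal (C.presheaf.stalk x')) h3).mp h4
    · obtain ⟨G, hG, hG'⟩ := K709.FormSep.exists_form _ _ (isClosed_image _ hφ₁ x hxc) (Ne.symm hc)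
      refine ⟨_, hN₁ G, ?_, ?_⟩
      · have h2 := (germ_ratio_mem_iff H₁ ν G x (hV₁ hx)).mpr hG
        have h3 := C.presheaf.germ_res_apply (homOfLE (f.preimage_mono hV₁)) x hx (ratio H₁ ν G)
        exact (congrArg (· ∈ maximalIdeal (C.presheaf.stalk x)) h3).mpr h2
      · intro h4
        apply hG'
        refine (germ_ratio_mem_iff H₁ ν G x' (hV₁ hx')).mp ?_
        have h3 := C.presheaf.germ_res_apply (homOfLE (f.preimage_mono hV₁)) x' hx' (ratio H₁ ν G)
        exact (congrArg (· ∈ maximalIdeal (C.presheaf.stalk x')) h3).mp h4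
  refine Groth.Agent.PerfB.ModExact.epi_of_locally_surjective ε fun U y x hx => ?_
  obtain ⟨ν, hν⟩ := exists_chart (W4c3multigrregular.biProj.fst 1 1 k) x
  obtain ⟨μ, hμ⟩ := exists_chart (W4c3multigrregular.biProj.snd 1 1 k) x
  obtain ⟨V, hV, hxV, hle⟩ := exists_isAffineOpen_mem_and_subset
    (U := U ⊓ (W4c3multigrregular.biProj.fst 1 1 k ⁻¹ᵁ chart 1 k ν ⊓
      W4c3multigrregular.biProj.snd 1 1 k ⁻¹ᵁ chart 1 k μ)) (x := x) ⟨hx, hν, hμ⟩
  obtain ⟨t, ht⟩ := hsurj ν μ V hV (fun z hz => (hle hz).2.1) (fun z hz => (hle hz).2.2)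
    (res ((Coh.push f).obj (Coh.structureModule C)) (fun z hz => (hle hz).1 : V ≤ U) y)
  exact ⟨V, fun z hz => (hle hz).1, hxV, t, ht⟩

end K709.EpiProj
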