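import Groth.Agent.Curves.K709.GenLin
import Groth.Agent.Curves.K330.FormSec

/-!
# General hyperplane sections of a variety mapping to projective space (characteristic zero)

`φ : X ⟶ P^n_k`.
* `mem_hyp_iff`: `φ x ∈ V(ℓ)` iff the local equation of `ℓ` lies in `m_x`;
* `exists_quot`: divisibility of sections of a module with local generators;
* `generic_good`: for general `ℓ` the local equation of `ℓ` lies in `m_x ^ 2` for no closed point `x`.
-/

set_option autoImplicit false
universe u

open CategoryTheory AlgebraicGeometry Limits TopologicalSpace Opposite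

namespace K709.GenHyp

open LefPen Groth.Agent.Fdesc.LocGen Groth.Agent.Lefpen.H705.HypIdeal Groth.Agent.Lefpen.H705.SecIdeal
open Groth.Agent.CurvesB.HZero K330.FormSec
open Groth.Agent.Lefpen.H702.PolyFun Groth.Agent.Lefpen.H708.Geo

/-! ### Divisibility of sections -/

theorem exists_quot {X : Scheme.{u}} [IsIntegral X] {M : X.Modules} (s s' : Γ(M, ⊤))
    (h : ∀ x : X, ∃ (U : X.Opens) (hx : x ∈ U) (g : Γ(M, U)) (a a' : Γ(X, U)), IsGen g ∧
      res M (le_top : U ≤ ⊤) s = a • g ∧ res M (le_top : U ≤ ⊤) s' = a' • g ∧ a ≠ 0 ∧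
      X.presheaf.germ U x hx a ∣ X.presheaf.germ U x hx a') :
    ∃ t : Γ(X, ⊤), s' = t • s := by
  have h1 : ∀ x : X, ∃ (V : X.Opens) (hx : x ∈ V) (b : Γ(X, V)),
      res M (le_top : V ≤ ⊤) s' = b • res M (le_top : V ≤ ⊤) s ∧
      (∀ (W : X.Opens) (hW : W ≤ V) (c c' : Γ(X, W)), Nonempty W →
        c • res M (le_top : W ≤ ⊤) s = c' • res M (le_top : W ≤ ⊤) s → c = c') := by
    intro x
    obtain ⟨U, hx, g, a, a', hg, hs, hs', ha, t, ht⟩ := h x
    obtain ⟨V, hxV, b, hb⟩ := X.presheaf.exists_germ_eq t
    let V' : X.Opens := U ⊓ V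
    have hxV' : x ∈ V' := ⟨hx, hxV⟩
    have h2 : X.presheaf.germ V' x hxV' (ores inf_le_left a') =
        X.presheaf.germ V' x hxV' (ores inf_le_left a * ores inf_le_right b) := by
      rw [map_mul]
      have e1 : X.presheaf.germ V' x hxV' (ores inf_le_left a') = X.presheaf.germ U x hx a' :=
        X.presheaf.germ_res_apply (homOfLE inf_le_left) x hxV' a'
      have e2 : X.presheaf.germ V' x hxV' (ores inf_le_left a) = X.presheaf.germ U x hx a :=
        X.presheaf.germ_res_apply (homOfLE inf_le_left) x hxV' a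
      have e3 : X.presheaf.germ V' x hxV' (ores inf_le_right b) = X.presheaf.germ V x hxV b :=
        X.presheaf.germ_res_apply (homOfLE inf_le_right) x hxV' b
      rw [e1, e2, e3, hb]
      exact ht
    obtain ⟨W, hxW, i1, i2, h3⟩ := X.presheaf.germ_eq x hxV' hxV' _ _ h2
    have hWV' : W ≤ V' := leOfHom i1
    have h3' : ores (hWV'.trans inf_le_left) a' = ores (hWV'.trans inf_le_left) a * ores (hWV'.trans inf_le_right) b := by
      have e4 : ores hWV' (ores (inf_le_left : V' ≤ U) a') =
          ores hWV' (ores (inf_le_left : V' ≤ U) a * ores (inf_le_right : V' ≤ V) b) := h3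
      rw [map_mul, ores_ores, ores_ores, ores_ores] at e4
      exact e4
    refine ⟨W, hxW, ores (hWV'.trans inf_le_right) b, ?_, ?_⟩
    · have e5 := congrArg (res M (hWV'.trans (inf_le_left : V' ≤ U))) hs'
      have e6 := congrArg (res M (hWV'.trans (inf_le_left : V' ≤ U))) hs
      rw [res_res, res_smul] at e5 e6
      rw [e5, e6, h3', smul_smul, mul_comm]
    · intro W' hW' c c' hne hc
      have hW'U : W' ≤ U := (hW'.trans hWV').trans inf_le_left
      have e6 := congrArg (res M hW'U) hs
      rw [res_res, res_smul] at e6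
      rw [e6, smul_smul, smul_smul] at hc
      have e7 := (hg.res hW'U).ext hc
      have hdom : IsDomain Γ(X, W') := inferInstance
      have hUne : Nonempty U := ⟨⟨x, hx⟩⟩
      have ha' : ores hW'U a ≠ 0 := by
        intro h0
        apply ha
        have hinj : Function.Injective (ores hW'U) := map_injective_of_isIntegral X (homOfLE hW'U)
        exact hinj (h0.trans (map_zero _).symm)
      exact mul_right_cancel₀ ha' e7
  choose V hxV b hb huniq using h1
  obtain ⟨t, ht⟩ := ores_glue (X := X) (V := ⊤) V (fun _ => le_top) (fun x _ => Opens.mem_iSup.mpr ⟨x, hxV x⟩) b (by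
    intro x y
    by_cases hne : Nonempty ↥(V x ⊓ V y)
    · refine huniq x (V x ⊓ V y) inf_le_left _ _ hne ?_
      have e1 := congrArg (res M (inf_le_left : V x ⊓ V y ≤ V x)) (hb x)
      have e2 := congrArg (res M (inf_le_right : V x ⊓ V y ≤ V y)) (hb y)
      rw [res_res, res_smul, res_res] at e1 e2
      rw [← e1, ← e2]
    · have : V x ⊓ V y = ⊥ := by
        ext z
        constructor
        · intro hz; exact absurd ⟨⟨z, hz⟩⟩ hne
        · intro hz; exact absurd hz (by simp)
      have hsub : Subsingleton Γ(X, V x ⊓ V y) := by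
        rw [this]; infer_instance
      exact Subsingleton.elim _ _)
  refine ⟨t, res_ext M V (fun _ => le_top) (fun x _ => Opens.mem_iSup.mpr ⟨x, hxV x⟩) fun x => ?_⟩
  rw [res_smul, ht, hb]

end K709.GenHyp
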