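import Groth.Agent.Lefpen.H702.Generic
import Groth.Agent.Lefpen.H702.PolyFun
import Groth.Agent.Lefpen.H702.LocAlg

/-!
# The general member of a base point free linear system on an affine algebra has no double zero

`exists_poly`: `k` algebraically closed of characteristic zero, `B` a finitely generated `k`-algebra, `w : ι → B` a
finite family generating the unit ideal.  There is a nonzero polynomial `F` such that for every `c` with `F(c) ≠ 0` the
element `∑ c_l w_l` lies in the square of no maximal ideal of `B`.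
-/

set_option autoImplicit false

universe u

open MvPolynomial

namespace K709.GenLin

open Groth.Agent.Lefpen.H702.AffAlg Groth.Agent.Lefpen.H702.LocAlg Groth.Agent.Lefpen.H702.Generic

variable {k : Type u} [Field k] {ι : Type} [Fintype ι]

theorem not_mem_of_algebraicIndependent [CharZero k] {N s : ℕ} (f : Fin s → MvPolynomial (Fin N) k)
    (W : ι → MvPolynomial (Fin N) k) (g : ι → MvPolynomial (Fin N) k) (h : Fin s → MvPolynomial (Fin N) k)
    (hg : ∑ l, g l * W l = 1 + ∑ b, h b * f b)
    {K : Type u} [Field K] [Algebra k K] (y : ι → K) (x : Fin N → K) (lam : Fin s → K)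
    (hf : ∀ b, aeval x (f b) = 0) (h0 : ∑ l, y l * aeval x (W l) = 0)
    (h1 : ∀ m, ∑ l, y l * aeval x (pderiv m (W l)) = ∑ b, lam b * aeval x (pderiv m (f b))) :
    ¬ AlgebraicIndependent k y := by
  classical
  intro hy
  have hW : ∀ l₀, aeval x (W l₀) = 0 := by
    intro l₀
    obtain ⟨D, hD⟩ := exists_derivation y hy (Pi.single l₀ 1)
    have h2 := congrArg D h0
    rw [map_sum, map_zero] at h2
    simp only [Derivation.leibniz, smul_eq_mul, hD, derivation_aeval] at h2
    rw [Finset.sum_add_distrib] at h2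
    have h3 : ∑ l, aeval x (W l) * (Pi.single l₀ (1 : K) : ι → K) l = aeval x (W l₀) := by
      rw [Finset.sum_eq_single l₀]
      · rw [Pi.single_eq_same, mul_one]
      · intro b _ hb
        rw [Pi.single_eq_of_ne hb, mul_zero]
      · intro h; exact absurd (Finset.mem_univ _) h
    have h4 : ∑ l, y l * ∑ m, aeval x (pderiv m (W l)) * D (x m) = 0 := by
      have h5 : ∀ b, ∑ m, aeval x (pderiv m (f b)) * D (x m) = 0 := by
        intro b
        rw [← derivation_aeval, hf b, map_zero]
      calc ∑ l, y l * ∑ m, aeval x (pderiv m (W l)) * D (x m)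
          = ∑ m, (∑ l, y l * aeval x (pderiv m (W l))) * D (x m) := by
            simp_rw [Finset.mul_sum, Finset.sum_mul]
            rw [Finset.sum_comm]
            exact Finset.sum_congr rfl fun m _ => Finset.sum_congr rfl fun l _ => by ring
        _ = ∑ m, (∑ b, lam b * aeval x (pderiv m (f b))) * D (x m) := by
            simp_rw [h1]
        _ = ∑ b, lam b * ∑ m, aeval x (pderiv m (f b)) * D (x m) := by
            simp_rw [Finset.mul_sum, Finset.sum_mul]
            rw [Finset.sum_comm]
            exact Finset.sum_congr rfl fun m _ => Finset.sum_congr rfl fun l _ => by ring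
        _ = 0 := by simp_rw [h5, mul_zero, Finset.sum_const_zero]
    rw [h4, zero_add, h3] at h2
    exact h2
  have h2 := congrArg (aeval x) hg
  simp only [map_sum, map_mul, map_add, map_one, hW, hf, mul_zero, Finset.sum_const_zero, add_zero] at h2
  exact zero_ne_one h2

theorem exists_poly [CharZero k] [IsAlgClosed k] {B : Type u} [CommRing B] [Algebra k B]
    [Algebra.FiniteType k B] (w : ι → B) (hw : Ideal.span (Set.range w) = ⊤) :
    ∃ F : MvPolynomial ι k, F ≠ 0 ∧ ∀ c : ι → k, aeval c F ≠ 0 → ∀ m : Ideal B, m.IsMaximal →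
      (∑ l, c l • w l) ∉ m ^ 2 := by
  classical
  obtain ⟨N, π, hπ⟩ := Algebra.FiniteType.iff_quotient_mvPolynomial''.mp (inferInstance : Algebra.FiniteType k B)
  obtain ⟨s, f, hf⟩ : ∃ (s : ℕ) (f : Fin s → MvPolynomial (Fin N) k),
      Ideal.span (Set.range f) = RingHom.ker π.toRingHom := by
    obtain ⟨S, hS⟩ := (inferInstance : IsNoetherianRing (MvPolynomial (Fin N) k)).noetherian (RingHom.ker π.toRingHom)
    refine ⟨S.card, fun i => (S.equivFin.symm i).1, ?_⟩
    have h1 : Set.range (fun i => (S.equivFin.symm i).1) = (S : Set (MvPolynomial (Fin N) k)) := by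
      ext z
      constructor
      · rintro ⟨i, rfl⟩
        exact (S.equivFin.symm i).2
      · intro hz
        exact ⟨S.equivFin ⟨z, hz⟩, by simp⟩
    rw [h1]
    exact hS
  choose W hW using fun l => hπ (w l)
  have h1 : (1 : B) ∈ Ideal.span (Set.range w) := by rw [hw]; trivial
  rw [Ideal.span, Submodule.mem_span_range_iff_exists_fun] at h1
  obtain ⟨g', hg'⟩ := h1
  choose g hg using fun l => hπ (g' l)
  have h2 : ∑ l, g l * W l - 1 ∈ Ideal.span (Set.range f) := by
    rw [hf, RingHom.mem_ker]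
    change π (∑ l, g l * W l - 1) = 0
    rw [map_sub, map_one, map_sum, sub_eq_zero, ← hg']
    exact Finset.sum_congr rfl fun l _ => by rw [map_mul, hg, hW, smul_eq_mul]
  rw [Ideal.span, Submodule.mem_span_range_iff_exists_fun] at h2
  obtain ⟨h, hh⟩ := h2
  have hgh : ∑ l, g l * W l = 1 + ∑ b, h b * f b := by
    simp only [smul_eq_mul] at hh
    rw [hh]; ring
  let ix : Fin N → ι ⊕ (Fin N ⊕ Fin s) := fun m => Sum.inr (Sum.inl m)
  let ib : Fin s → ι ⊕ (Fin N ⊕ Fin s) := fun b => Sum.inr (Sum.inr b)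
  let P0 : MvPolynomial (ι ⊕ (Fin N ⊕ Fin s)) k := ∑ l, X (Sum.inl l) * rename ix (W l)
  let P1 : Fin N → MvPolynomial (ι ⊕ (Fin N ⊕ Fin s)) k := fun m =>
    ∑ l, X (Sum.inl l) * rename ix (pderiv m (W l)) - ∑ b, X (ib b) * rename ix (pderiv m (f b))
  let S : Set (MvPolynomial (ι ⊕ (Fin N ⊕ Fin s)) k) :=
    Set.range (fun b => rename ix (f b)) ∪ {P0} ∪ Set.range P1
  have hren : ∀ (K : Type u) [Field K] [Algebra k K] (y : ι → K) (p : Fin N ⊕ Fin s → K) (q : MvPolynomial (Fin N) k),
      aeval (Sum.elim y p) (rename ix q) = aeval (p ∘ Sum.inl) q := by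
    intro K _ _ y p q
    rw [aeval_rename]
    rfl
  have hS : ∀ (K : Type u) [Field K] [Algebra k K] (y : ι → K) (p : Fin N ⊕ Fin s → K),
      (∀ P ∈ S, aeval (Sum.elim y p) P = 0) ↔
        (∀ b, aeval (p ∘ Sum.inl) (f b) = 0) ∧ (∑ l, y l * aeval (p ∘ Sum.inl) (W l) = 0) ∧
          ∀ m, ∑ l, y l * aeval (p ∘ Sum.inl) (pderiv m (W l)) =
            ∑ b, (p ∘ Sum.inr) b * aeval (p ∘ Sum.inl) (pderiv m (f b)) := by
    intro K _ _ y p
    have e0 : aeval (Sum.elim y p) P0 = ∑ l, y l * aeval (p ∘ Sum.inl) (W l) := by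
      rw [map_sum]
      exact Finset.sum_congr rfl fun l _ => by rw [map_mul, aeval_X, hren]; rfl
    have e1 : ∀ m, aeval (Sum.elim y p) (P1 m) = ∑ l, y l * aeval (p ∘ Sum.inl) (pderiv m (W l)) -
        ∑ b, (p ∘ Sum.inr) b * aeval (p ∘ Sum.inl) (pderiv m (f b)) := by
      intro m
      rw [map_sub, map_sum, map_sum]
      congr 1
      · exact Finset.sum_congr rfl fun l _ => by rw [map_mul, aeval_X, hren]; rfl
      · exact Finset.sum_congr rfl fun l _ => by rw [map_mul, aeval_X, hren]; rfl
    constructor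
    · intro H
      refine ⟨fun b => ?_, ?_, fun m => ?_⟩
      · rw [← hren K y p]
        exact H _ (Or.inl (Or.inl ⟨b, rfl⟩))
      · rw [← e0]
        exact H _ (Or.inl (Or.inr rfl))
      · have := H _ (Or.inr ⟨m, rfl⟩)
        rw [e1, sub_eq_zero] at this
        exact this
    · rintro ⟨H1, H2, H3⟩ P ((⟨b, rfl⟩ | hP) | ⟨m, rfl⟩)
      · change aeval _ (rename ix (f b)) = 0
        rw [hren]
        exact H1 b
      · rw [Set.mem_singleton_iff] at hP
        subst hP
        rw [e0]
        exact H2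
      · rw [e1, H3, sub_self]
  obtain ⟨F, hF0, hF⟩ := exists_polynomial_of_system S (fun K _ _ y p hyp => by
    rw [hS] at hyp
    exact not_mem_of_algebraicIndependent f W g h hgh y _ _ hyp.1 hyp.2.1 hyp.2.2)
  refine ⟨F, hF0, fun c hc m hm hmem => hc ?_⟩
  obtain ⟨a, ha⟩ := exists_point π.toRingHom hπ m
  have hfa : ∀ b, eval a (f b) = 0 := by
    intro b
    rw [← mem_ptIdeal_iff, ← ha, Ideal.mem_comap]
    have : f b ∈ RingHom.ker π.toRingHom := by rw [← hf]; exact Ideal.subset_span ⟨b, rfl⟩
    rw [RingHom.mem_ker.mp this]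
    exact m.zero_mem
  have hM : (ptIdeal a).map π.toRingHom = m := by
    rw [← ha, Ideal.map_comap_of_surjective π.toRingHom hπ]
  have h3 : ∑ l, C (c l) * W l ∈ ptIdeal a ^ 2 ⊔ Ideal.span (Set.range f) := by
    have h4 : ∑ l, C (c l) * W l ∈ (m ^ 2).comap π.toRingHom := by
      rw [Ideal.mem_comap]
      change π (∑ l, C (c l) * W l) ∈ m ^ 2
      rw [map_sum]
      convert hmem using 1
      refine Finset.sum_congr rfl fun l _ => ?_
      rw [map_mul, hW, Algebra.smul_def]
      congr 1
      exact π.commutes (c l)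
    rw [← hM, ← Ideal.map_pow, Ideal.comap_map_of_surjective π.toRingHom hπ] at h4
    rw [hf]
    exact h4
  rw [mem_sq_sup_span_iff a f hfa] at h3
  obtain ⟨h5, lam, h6⟩ := h3
  refine hF c (Sum.elim a lam) ((hS k c _).mpr ⟨fun b => ?_, ?_, fun l => ?_⟩)
  · have := hfa b
    simpa [aeval_eq_eval] using this
  · rw [map_sum] at h5
    simpa [aeval_eq_eval] using h5
  · have := h6 l
    rw [map_sum, map_sum] at this
    simpa [aeval_eq_eval, Derivation.leibniz] using this

end K709.GenLin
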