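import Groth.Agent.Krr.H487.KerRank
import Groth.Agent.Krr.H490.LocBasisPull
import Groth.Agent.Fdesc.LocGenTensor

/-!
# Ranks of kernels of maps to torsion modules, and of finite coproducts of invertible modules
-/

set_option autoImplicit false
universe u

open CategoryTheory CategoryTheory.Limits AlgebraicGeometry Opposite TopologicalSpace

namespace K709.KerGen

open Groth.Agent.Krr.H487.KerRank Groth.Agent.CycB.StalkExact

variable {X : Scheme.{u}}

/-- The kernel of a morphism to a module vanishing generically has the rank of the source. -/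
theorem rank_kernel [PreirreducibleSpace X] {M G : X.Modules} (p : M ⟶ G) {N : ℕ}
    (hM : FlatMod.IsFinLocFreeOfRank N M) (hK : FlatMod.IsFinLocFree (kernel p)) (W : X.Opens)
    (hW : (W : Set X).Nonempty) (hG : ∀ z ∈ W, Subsingleton (G.presheaf.stalk z)) :
    FlatMod.IsFinLocFreeOfRank N (kernel p) := by
  refine isFinLocFreeOfRank_of_forall hK fun x U m b hx hb => ?_
  obtain ⟨z, hzU, hzW⟩ := nonempty_preirreducible_inter U.isOpen W.isOpen ⟨x, hx⟩ hW
  obtain ⟨V, hzV, c, hc⟩ := (isFinLocFreeOfRank_iff M).mp hM z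
  let B := Groth.Agent.Krr.H490.LocBasisPull.stalkBasis hb z hzU
  let B' := Groth.Agent.Krr.H490.LocBasisPull.stalkBasis hc z hzV
  have hsub := hG z hzW
  have hbij : Function.Bijective (stalkLin (kernel.ι p) z) := by
    refine ⟨stalkLin_injective (kernel.ι p) z, fun t => ?_⟩
    have h1 := stalkLin_exact (ShortComplex.mk (kernel.ι p) p (kernel.condition p))
      (ShortComplex.exact_kernel p) z
    exact (h1 t).mp (Subsingleton.elim _ _)
  let e := LinearEquiv.ofBijective (stalkLin (kernel.ι p) z) hbij
  have h2 := Fintype.card_congr (Module.Basis.indexEquiv (B.map e) B')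
  rwa [Fintype.card_fin, Fintype.card_fin] at h2

theorem rank_biprod {M M' : X.Modules} {m m' : ℕ} (h : FlatMod.IsFinLocFreeOfRank m M)
    (h' : FlatMod.IsFinLocFreeOfRank m' M') : FlatMod.IsFinLocFreeOfRank (m + m') (M ⊞ M') :=
  isFinLocFreeOfRank_mid (S := ShortComplex.mk (biprod.inl : M ⟶ M ⊞ M') biprod.snd (by simp))
    (ShortComplex.Splitting.ofHasBinaryBiproduct M M').shortExact h h'

theorem rank_coprod {M M' : X.Modules} {m m' : ℕ} (h : FlatMod.IsFinLocFreeOfRank m M)
    (h' : FlatMod.IsFinLocFreeOfRank m' M') : FlatMod.IsFinLocFreeOfRank (m + m') (M ⨿ M') :=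
  isFinLocFreeOfRank_of_iso (biprod.isoCoprod M M') (rank_biprod h h')

/-- A finite coproduct of copies of an invertible module. -/
theorem rank_sigma {L : X.Modules} (hL : PicF.IsInvertible L) (m : ℕ) :
    FlatMod.IsFinLocFreeOfRank m (∐ fun _ : Fin m => L) := by
  intro x
  obtain ⟨U, hx, ⟨e⟩⟩ := hL x
  refine ⟨U, hx, ⟨?_⟩⟩
  have : PreservesFiniteColimits (Scheme.Modules.restrictFunctor U.ι) := inferInstance
  have : PreservesColimitsOfShape (Discrete (Fin m)) (Scheme.Modules.restrictFunctor U.ι) := inferInstance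
  exact (PreservesCoproduct.iso (Scheme.Modules.restrictFunctor U.ι) (fun _ : Fin m => L)) ≪≫
    Sigma.mapIso fun _ => e

theorem rank_structureModule : FlatMod.IsFinLocFreeOfRank 1 (Coh.structureModule X) :=
  isFinLocFreeOfRank_of_iso (coproductUniqueIso fun _ : Fin 1 => Coh.structureModule X)
    (rank_sigma Groth.Agent.Fdesc.LocGen.isInvertible_structureModule 1)

end K709.KerGen
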