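import Groth.Agent.Surf.K459.LocFreeKer
import Groth.Agent.CurvesB.DimPts
import Groth.Agent.Ega1.ClosedUnit
import Mathlib.AlgebraicGeometry.Morphisms.QuasiFinite

/-!
# The direct image of the structure sheaf of a curve under a finite morphism to a surface has depth one
-/

set_option autoImplicit false
universe u
open CategoryTheory CategoryTheory.Limits AlgebraicGeometry TopologicalSpace Opposite

namespace K709.PushReg

open K459.PdAlg K459.LocFreeKer Groth.Agent.CycB.StalkExact

variable {Q C : Scheme.{u}}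

/-- Points with stalk of maximal dimension are closed. -/
theorem isClosed_of_dim (n : ℕ) (hQ : topologicalKrullDim Q ≤ n) (y : Q)
    (hy : ringKrullDim (Q.presheaf.stalk y) = n) : IsClosed ({y} : Set Q) := by
  by_contra hx
  rw [ringKrullDim_stalk_eq_coheight] at hy
  obtain ⟨z, hz⟩ : ∃ z : Q, z < y := by
    by_contra hcon
    push Not at hcon
    apply hx
    rw [← closure_eq_iff_isClosed]
    apply Set.eq_singleton_iff_unique_mem.mpr
    refine ⟨subset_closure (Set.mem_singleton y), fun z hz => ?_⟩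
    by_contra hzy
    have h1 : y ⤳ z := specializes_iff_mem_closure.mpr hz
    exact hcon z (lt_of_le_not_ge h1 (fun h2 : z ⤳ y => hzy (h2.antisymm h1).eq))
  have h1 := Order.coheight_add_one_le hz
  have h2 : ((Order.coheight z : ℕ∞) : WithBot ℕ∞) ≤ n :=
    (Order.coheight_le_krullDim z).trans (Groth.Agent.CurvesB.DimPts.krullDim_eq (X := Q) ▸ hQ)
  have h3 : Order.coheight z ≤ n := by exact_mod_cast h2
  have h4 : Order.coheight y = (n : ℕ∞) := by exact_mod_cast hy
  rw [h4] at h1
  have h5 : (n : ℕ∞) + 1 ≤ n := h1.trans h3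
  have h6 : (n + 1 : ℕ) ≤ n := by exact_mod_cast h5
  omega

/-- A finite Jacobson space has dimension zero. -/
theorem not_finite_of_dim_one (k : Type u) [Field k] (g : C ⟶ Spec (CommRingCat.of k)) [LocallyOfFiniteType g]
    [IsIntegral C] (hC : topologicalKrullDim C = 1) : ¬ Finite C := by
  intro hfin
  have hJ : JacobsonSpace C := LocallyOfFiniteType.jacobsonSpace g
  have hd : DiscreteTopology C := inferInstance
  have h1 : Subsingleton C := by
    refine ⟨fun a b => ?_⟩
    have ha : IsOpen ({a} : Set C) := isOpen_discrete _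
    have hb : IsOpen ({b} : Set C) := isOpen_discrete _
    obtain ⟨z, hz, hz'⟩ := nonempty_preirreducible_inter ha hb ⟨a, rfl⟩ ⟨b, rfl⟩
    exact (Set.mem_singleton_iff.mp hz).symm.trans (Set.mem_singleton_iff.mp hz')
  have h2 : topologicalKrullDim C ≤ 0 := by
    rw [Groth.Agent.CurvesB.DimPts.krullDim_eq]
    exact Order.krullDim_nonpos_of_subsingleton
  rw [hC] at h2
  exact absurd h2 (by decide)

/-- The direct image of the structure sheaf of an integral curve under a finite morphism to a surface. -/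
theorem reg1_push (k : Type u) [Field k] (g : Q ⟶ Spec (CommRingCat.of k)) [LocallyOfFiniteType g]
    (hQ : topologicalKrullDim Q ≤ 2) (f : C ⟶ Q) [IsFinite f] [IsIntegral C] (hC : topologicalKrullDim C = 1) :
    Reg1 ((Coh.push f).obj (Coh.structureModule C)) := by
  intro y hy
  by_cases hyr : y ∈ Set.range f
  swap
  · exact Or.inl (Groth.Agent.Ega1.ClosedUnit.subsingleton_stalk_pushforward f
      (f.isClosedMap.isClosed_range) _ y hyr)
  right
  obtain ⟨c, rfl⟩ := hyr
  have hyc : IsClosed ({f c} : Set Q) := isClosed_of_dim 2 hQ _ hy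
  -- the image of the generic point is not `y`
  have hne : f (genericPoint C) ∉ closure ({f c} : Set Q) := by
    intro h
    rw [hyc.closure_eq, Set.mem_singleton_iff] at h
    apply not_finite_of_dim_one k (f ≫ g) hC
    have h1 : ∀ z : C, f z = f c := by
      intro z
      have h2 : f (genericPoint C) ⤳ f z := (genericPoint_specializes z).map f.continuous
      rw [h] at h2
      have h3 := specializes_iff_mem_closure.mp h2
      rw [hyc.closure_eq] at h3
      exact h3
    have h4 : (f.base ⁻¹' {f c}).Finite := f.finite_preimage_singleton (f c)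
    have h5 : f.base ⁻¹' {f c} = Set.univ := Set.eq_univ_of_forall fun z => h1 z
    rw [h5] at h4
    exact Set.finite_univ_iff.mp h4
  -- a function vanishing at `y` but not at the image of the generic point
  obtain ⟨V, hV, hyV, -⟩ := exists_isAffineOpen_mem_and_subset (U := (⊤ : Q.Opens)) (x := f c) trivial
  have hηV : f (genericPoint C) ∈ V := ((genericPoint_specializes c).map f.continuous).mem_open V.isOpen hyV
  let W : Q.Opens := V ⊓ ⟨(closure ({f c} : Set Q))ᶜ, isClosed_closure.isOpen_compl⟩
  obtain ⟨α, hα, hηα⟩ := hV.exists_basicOpen_le (V := W)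
    ⟨f (genericPoint C), ⟨hηV, hne⟩⟩ hηV
  have hyα : f c ∉ Q.basicOpen α := fun h => (hα h).2 (subset_closure rfl)
  have hαη : genericPoint C ∈ C.basicOpen (f.app V α) := by
    rw [← Scheme.preimage_basicOpen]
    exact hηα
  refine ⟨Q.presheaf.germ V (f c) hyV α, ?_, ?_⟩
  · rw [IsLocalRing.mem_maximalIdeal, mem_nonunits_iff]
    intro hu
    exact hyα ((Scheme.mem_basicOpen Q α (f c) hyV).mpr hu)
  · -- regularity
    have key : ∀ w : ((Coh.push f).obj (Coh.structureModule C)).presheaf.stalk (f c),
        Q.presheaf.germ V (f c) hyV α • w = 0 → w = 0 := by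
      intro w hw
      obtain ⟨V', hyV', t, rfl⟩ := ((Coh.push f).obj (Coh.structureModule C)).presheaf.exists_germ_eq w
      let V₁ : Q.Opens := V ⊓ V'
      have hy₁ : f c ∈ V₁ := ⟨hyV, hyV'⟩
      let F := (Coh.push f).obj (Coh.structureModule C)
      let t₁ : Γ(F, V₁) := F.presheaf.map (homOfLE (inf_le_right : V₁ ≤ V')).op t
      let α₁ : Γ(Q, V₁) := Q.presheaf.map (homOfLE (inf_le_left : V₁ ≤ V)).op α
      have ht₁ : F.presheaf.germ V₁ (f c) hy₁ t₁ = F.presheaf.germ V' (f c) hyV' t :=
        F.presheaf.germ_res_apply (homOfLE inf_le_right) (f c) hy₁ t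
      have hα₁ : Q.presheaf.germ V₁ (f c) hy₁ α₁ = Q.presheaf.germ V (f c) hyV α :=
        Q.presheaf.germ_res_apply (homOfLE inf_le_left) (f c) hy₁ α
      rw [← ht₁, ← hα₁] at hw
      have h1 : F.presheaf.germ V₁ (f c) hy₁ (α₁ • t₁) = F.presheaf.germ V₁ (f c) hy₁ 0 := by
        rw [map_zero]
        exact (germ_smul (M := F) (f c) hy₁ α₁ t₁).trans hw
      obtain ⟨V₂, hy₂, i1, i2, h2⟩ := F.presheaf.germ_eq (f c) hy₁ hy₁ _ _ h1
      have h3 : (C.presheaf.map (homOfLE (f.preimage_mono (leOfHom i1))).op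
          (f.app V₁ α₁ * (show Γ(C, f ⁻¹ᵁ V₁) from t₁))) = 0 := by
        have h4 : F.presheaf.map i2.op (0 : Γ(F, V₁)) = 0 := map_zero _
        rw [h4] at h2
        exact h2
      rw [map_mul] at h3
      have hη₂ : genericPoint C ∈ f ⁻¹ᵁ V₂ :=
        ((genericPoint_specializes c).map f.continuous).mem_open V₂.isOpen hy₂
      have hne₂ : Nonempty ↥((f ⁻¹ᵁ V₂ : C.Opens) : Scheme.{u}) := ⟨⟨_, hη₂⟩⟩
      have hdom : IsDomain Γ(C, f ⁻¹ᵁ V₂) := IsIntegral.component_integral (f ⁻¹ᵁ V₂)
      rcases mul_eq_zero.mp h3 with h5 | h5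
      · exfalso
        have hη₁ : genericPoint C ∈ f ⁻¹ᵁ V₁ :=
          ((genericPoint_specializes c).map f.continuous).mem_open V₁.isOpen hy₁
        have h6 : C.presheaf.germ (f ⁻¹ᵁ V₁) (genericPoint C) hη₁ (f.app V₁ α₁) = 0 := by
          rw [← C.presheaf.germ_res_apply (homOfLE (f.preimage_mono (leOfHom i1))) _ hη₂, h5, map_zero]
        have h7 : f.app V₁ α₁ = C.presheaf.map (homOfLE (f.preimage_mono (inf_le_left : V₁ ≤ V))).op (f.app V α) :=
          congrArg (fun φ => φ.hom α) (f.naturality (homOfLE (inf_le_left : V₁ ≤ V)).op)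
        rw [h7] at h6
        have h8 := C.presheaf.germ_res_apply (homOfLE (f.preimage_mono (inf_le_left : V₁ ≤ V)))
          (genericPoint C) hη₁ (f.app V α)
        have h9 := (Scheme.mem_basicOpen C (f.app V α) (genericPoint C)
          (f.preimage_mono (inf_le_left : V₁ ≤ V) hη₁)).mp hαη
        have h10 := h8.symm.trans h6
        rw [h10] at h9
        exact not_isUnit_zero h9
      · rw [← ht₁]
        have h6 : F.presheaf.germ V₂ (f c) hy₂ (F.presheaf.map i1.op t₁) = F.presheaf.germ V₁ (f c) hy₁ t₁ :=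
          F.presheaf.germ_res_apply i1 (f c) hy₂ t₁
        rw [← h6]
        have h7 : F.presheaf.map i1.op t₁ = 0 := h5
        rw [h7, map_zero]
    intro w w' hww
    rw [← sub_eq_zero]
    apply key
    rw [smul_sub, sub_eq_zero]
    exact hww

end K709.PushReg
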