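import Groth.Agent.Curves.K709.EpiProj3
import Groth.Agent.Curves.K709.PushReg
import Groth.Agent.Curves.K709.KerGen
import Groth.Agent.S1582
import Groth.Agent.S1535
import Groth.Agent.S10829
import Groth.Agent.CycA.ProdDim
import Groth.Agent.Sga5.ProjSmooth
import Groth.Agent.Dix.DimClosed
import Groth.Agent.CohqA.AffPush
import Groth.Agent.CurvesB.UnitCoh
import Groth.Agent.Curves.K330.FormSec
import Mathlib.AlgebraicGeometry.ZariskisMainTheorem

/-!
# The resolution of the direct image of a curve under a good projection to a quadric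
-/

set_option autoImplicit false
universe u

open CategoryTheory CategoryTheory.Limits AlgebraicGeometry TopologicalSpace Opposite

namespace K709.GoodProj

open LefPen Groth.Agent K709.EpiProj K709.LinProj K709.KerGen K709.PushReg

variable {k : Type u} [Field k] [IsAlgClosed k]

theorem isIntegral_biProj (a b : ℕ) : IsIntegral (W4c3multigrregular.biProj a b k) := by
  have hir : IsIntegral (CohB1.ProjSpace a k) := inferInstance
  have his : IsIntegral (CohB1.ProjSpace b k) := inferInstance
  have hpr : IsProper (CohB1.ProjSpace.toSpec a k) := inferInstance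
  have hps : IsProper (CohB1.ProjSpace.toSpec b k) := inferInstance
  exact S1582.result k _ _ _ _

theorem dim_biProj (a b : ℕ) : topologicalKrullDim (W4c3multigrregular.biProj a b k) = ((a + b : ℕ) : WithBot ℕ∞) := by
  have hir : IsIntegral (CohB1.ProjSpace a k) := inferInstance
  have his : IsIntegral (CohB1.ProjSpace b k) := inferInstance
  have hint : IsIntegral (pullback (CohB1.ProjSpace.toSpec a k) (CohB1.ProjSpace.toSpec b k)) :=
    isIntegral_biProj a b
  obtain ⟨n, m, h1, h2, h3⟩ := CycA.ProdDim.exists_dim_pullback (CohB1.ProjSpace.toSpec a k)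
    (CohB1.ProjSpace.toSpec b k)
  rw [S10829.result] at h1 h2
  have h4 : a = n := by exact_mod_cast h1
  have h5 : b = m := by exact_mod_cast h2
  subst h4 h5
  exact h3

theorem smooth_biProj (a b : ℕ) : Smooth (W4c3multigrregular.biProj.toSpec a b k) := by
  have h1 : Smooth (CohB1.ProjSpace.toSpec a k) :=
    SmoothOfRelativeDimension.smooth a (CohB1.ProjSpace.toSpec a k)
  have h2 : Smooth (CohB1.ProjSpace.toSpec b k) :=
    SmoothOfRelativeDimension.smooth b (CohB1.ProjSpace.toSpec b k)
  infer_instance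

theorem isRegular_biProj (a b : ℕ) (x : W4c3multigrregular.biProj a b k) :
    IsRegularLocalRing ((W4c3multigrregular.biProj a b k).presheaf.stalk x) := by
  have h1 : Smooth (W4c3multigrregular.biProj a b k ↘ Spec (CommRingCat.of k)) := smooth_biProj a b
  exact S1535.result k _ x

theorem main {a b : ℕ} (ha : 2 ≤ a) (hb : 2 ≤ b) {C : Scheme.{u}} [C.Over (Spec (CommRingCat.of k))] [IsIntegral C]
    [IsProper (C ↘ Spec (CommRingCat.of k))] (hdim : topologicalKrullDim C = 1)
    (i : C ⟶ W4c3multigrregular.biProj a b k) [Mono i]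
    (hi : i ≫ W4c3multigrregular.biProj.toSpec a b k = C ↘ Spec (CommRingCat.of k))
    (L₁ : Fin 2 → Form a k 1) (hL₁ : LinearIndependent k L₁)
    (L₂ : Fin 2 → Form b k 1) (hL₂ : LinearIndependent k L₂)
    (f : C ⟶ W4c3multigrregular.biProj 1 1 k)
    (hf : f ≫ W4c3multigrregular.biProj.toSpec 1 1 k = C ↘ Spec (CommRingCat.of k))
    (H₁ : IsProjn (i ≫ W4c3multigrregular.biProj.fst a b k) (f ≫ W4c3multigrregular.biProj.fst 1 1 k) L₁)
    (H₂ : IsProjn (i ≫ W4c3multigrregular.biProj.snd a b k) (f ≫ W4c3multigrregular.biProj.snd 1 1 k) L₂)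
    (hfib : ∀ y : ↥(W4c3multigrregular.biProj 1 1 k), (f.base ⁻¹' {y}).Finite ∧ (f.base ⁻¹' {y}).ncard ≤ 2)
    [FormallyUnramified f] :
    ∃ ε : ((∐ fun _ : Fin (a - 1) => W4c3multigrregular.lineBundle 1 1 k (-1) 0) ⨿
            ((∐ fun _ : Fin (b - 1) => W4c3multigrregular.lineBundle 1 1 k 0 (-1)) ⨿
              Coh.structureModule (W4c3multigrregular.biProj 1 1 k))) ⟶ (Coh.push f).obj (Coh.structureModule C),
      Epi ε ∧ FlatMod.IsFinLocFreeOfRank (a + b - 1) (kernel ε) := by
  have hprop : IsProper (f ≫ W4c3multigrregular.biProj.toSpec 1 1 k) := by rw [hf]; infer_instance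
  have hfp : IsProper f := IsProper.of_comp f (W4c3multigrregular.biProj.toSpec 1 1 k)
  have hlqf : LocallyQuasiFinite f := LocallyQuasiFinite.of_finite_preimage_singleton f fun y => (hfib y).1
  have hfin : IsFinite f := IsFinite.of_isProper_of_locallyQuasiFinite f
  have hQint : IsIntegral (W4c3multigrregular.biProj 1 1 k) := isIntegral_biProj 1 1
  have hQdim : topologicalKrullDim (W4c3multigrregular.biProj 1 1 k) = ((2 : ℕ) : WithBot ℕ∞) := dim_biProj 1 1
  have hQft : LocallyOfFiniteType (W4c3multigrregular.biProj.toSpec 1 1 k) := inferInstance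
  have hQln : IsLocallyNoetherian (W4c3multigrregular.biProj 1 1 k) :=
    LocallyOfFiniteType.isLocallyNoetherian (W4c3multigrregular.biProj.toSpec 1 1 k)
  obtain ⟨ε, hε⟩ := exists_epi i hi L₁ hL₁ L₂ hL₂ f hf H₁ H₂ hfib
  refine ⟨ε, hε, ?_⟩
  -- rank of the source
  have hinv : ∀ m n : ℤ, PicF.IsInvertible (W4c3multigrregular.lineBundle 1 1 k m n) := fun m n =>
    Fdesc.LocGen.isInvertible_tensorMod
      (Fdesc.LocGen.isInvertible_pullback _ (FormalB.TwistGen.isInvertible_twistProjSpace 1 k m))
      (Fdesc.LocGen.isInvertible_pullback _ (FormalB.TwistGen.isInvertible_twistProjSpace 1 k n))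
  have hM : FlatMod.IsFinLocFreeOfRank (a + b - 1)
      ((∐ fun _ : Fin (a - 1) => W4c3multigrregular.lineBundle 1 1 k (-1) 0) ⨿
            ((∐ fun _ : Fin (b - 1) => W4c3multigrregular.lineBundle 1 1 k 0 (-1)) ⨿
              Coh.structureModule (W4c3multigrregular.biProj 1 1 k))) := by
    have h := rank_coprod (rank_sigma (hinv (-1) 0) (a - 1))
      (rank_coprod (rank_sigma (hinv 0 (-1)) (b - 1)) rank_structureModule)
    have e : a - 1 + (b - 1 + 1) = a + b - 1 := by omega
    rwa [e] at h
  have hG : Coh.IsQCoh ((Coh.push f).obj (Coh.structureModule C)) := by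
    have : IsLocallyNoetherian C := LocallyOfFiniteType.isLocallyNoetherian (C ↘ Spec (CommRingCat.of k))
    exact CohqA.AffPush.isQCoh_push f _ (CurvesB.UnitCoh.isCoh_structureModule C).1
  have hreg1 := reg1_push k (W4c3multigrregular.biProj.toSpec 1 1 k) hQdim.le f hdim
  have hK : FlatMod.IsFinLocFree (kernel ε) :=
    K459.LocFreeKer.isFinLocFree_kernel (fun x => isRegular_biProj 1 1 x)
      (fun x => (CurvesB.DimPts.ringKrullDim_stalk_le x).trans hQdim.le) ε
      (Krr.H487.KerRank.isFinLocFree_of_rank hM) hG hreg1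
  -- the image of `f` is not everything
  let W : (W4c3multigrregular.biProj 1 1 k).Opens := ⟨(Set.range f)ᶜ, f.isClosedMap.isClosed_range.isOpen_compl⟩
  refine rank_kernel ε hM hK W ?_ fun z hz =>
    Ega1.ClosedUnit.subsingleton_stalk_pushforward f f.isClosedMap.isClosed_range _ z hz
  by_contra hne
  rw [Set.not_nonempty_iff_eq_empty] at hne
  have hsurj : Function.Surjective f := by
    intro z
    by_contra hz
    have : z ∈ (W : Set _) := hz
    rw [hne] at this
    exact this
  have h1 := Dix.DimClosed.topologicalKrullDim_le_of_isClosedMap f f.isClosedMap hsurj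
  rw [hQdim, hdim] at h1
  exact absurd h1 (by decide)

end K709.GoodProj
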