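import Groth.Agent.Curves.K709.GenGood
import Groth.Agent.CurvesB.DimPts
import Groth.Agent.VarietyA.CurveFin
import Groth.Agent.Lefpen.H705.ClosedPoint

/-!
# The points of a general hyperplane section of a curve impose the maximal number of conditions

`φ : C ⟶ P^n_k`, `C` an integral proper regular curve over `k` algebraically closed, `ℓ` a linear form whose local
equation is in `m_x ^ 2` for no closed point `x`.
* `exists_smul`: a form vanishing on `C ∩ V(ℓ)` is a scalar multiple of `ℓ`;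
* `exists_not_mem`: some closed point is not on `V(ℓ)`;
* `exists_pencil`: a pencil has a member through a given closed point.
-/

set_option autoImplicit false
universe u

open CategoryTheory AlgebraicGeometry Limits TopologicalSpace Opposite

namespace K709.HypSpan

open LefPen Groth.Agent.Fdesc.LocGen Groth.Agent.Lefpen.H705.HypIdeal Groth.Agent.Lefpen.H705.SecIdeal
open Groth.Agent.CurvesB.HZero K330.FormSec IsLocalRing
open Groth.Agent.Lefpen.H708.Geo K709.GenGood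

variable {n : ℕ} {k : Type u} [Field k]

/-- In a regular local ring of dimension `≤ 1` an element outside `m ^ 2` divides every element of `m` (and every
element if it is a unit). -/
theorem dvd_of_not_mem_sq {A : Type*} [CommRing A] [IsRegularLocalRing A] (hd : ringKrullDim A ≤ 1) (e e' : A)
    (he : e ∉ maximalIdeal A ^ 2) (h : e ∈ maximalIdeal A → e' ∈ maximalIdeal A) : e ∣ e' := by
  by_cases hu : e ∈ maximalIdeal A
  · have hp : (maximalIdeal A).IsPrincipal := by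
      have h1 := IsRegularLocalRing.spanFinrank_maximalIdeal (R := A)
      rw [← h1] at hd
      have h2 : (maximalIdeal A).spanFinrank ≤ 1 := by exact_mod_cast hd
      rcases Nat.le_one_iff_eq_zero_or_eq_one.mp h2 with h3 | h3
      · rw [Submodule.spanFinrank_eq_zero_iff_eq_bot (IsNoetherian.noetherian _)] at h3
        rw [h3]; exact bot_isPrincipal
      · exact ((Submodule.spanFinrank_eq_one_iff _).mp h3).1
    obtain ⟨t, ht⟩ := hp
    rw [Ideal.submodule_span_eq] at ht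
    have hu' := hu
    rw [ht, Ideal.mem_span_singleton'] at hu'
    obtain ⟨r, hr⟩ := hu'
    have htm : t ∈ maximalIdeal A := by rw [ht]; exact Ideal.mem_span_singleton_self t
    have hru : IsUnit r := by
      by_contra hr0
      apply he
      rw [← hr, pow_two]
      exact Ideal.mul_mem_mul ((mem_maximalIdeal r).mpr hr0) htm
    have h4 := h hu
    rw [ht, Ideal.mem_span_singleton] at h4
    obtain ⟨v, hv⟩ := hru
    refine dvd_trans ⟨(v⁻¹ : Aˣ).1, ?_⟩ h4
    rw [← hr, ← hv, mul_comm, ← mul_assoc, Units.inv_mul, one_mul]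
  · have : IsUnit e := by
      by_contra hr0
      exact hu ((mem_maximalIdeal e).mpr hr0)
    exact this.dvd

variable {C : Scheme.{u}}

theorem exists_chart (φ : C ⟶ CohB1.ProjSpace n k) (x : C) : ∃ j, φ x ∈ chart n k j :=
  Groth.Agent.PerfB.ProjSpaceCover.exists_mem_basicOpen_X n k (φ x)

theorem exists_closed_spec [CompactSpace C] (x : C) : ∃ y : C, x ⤳ y ∧ IsClosed ({y} : Set C) := by
  obtain ⟨y, hy, hyc⟩ := IsClosed.exists_closed_singleton (isClosed_closure (s := ({x} : Set C)))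
    ⟨x, subset_closure rfl⟩
  exact ⟨y, specializes_iff_mem_closure.mpr hy, hyc⟩

/-- Divisibility of the global sections. -/
theorem exists_quot_sec [IsIntegral C] [CompactSpace C] (hdim : topologicalKrullDim C ≤ 1)
    (hsm : ∀ x : C, IsRegularLocalRing (C.presheaf.stalk x)) (φ : C ⟶ CohB1.ProjSpace n k) (ℓ ℓ' : Form n k 1)
    (hℓ : ∀ x : C, IsClosed ({x} : Set C) → ∀ (j : Fin (n + 1)) (hx : φ x ∈ chart n k j),
      stalkEqn φ j x hx ℓ ∉ maximalIdeal (C.presheaf.stalk x) ^ 2)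
    (h : ∀ x : C, φ x ∈ (hypIdeal ℓ).support → φ x ∈ (hypIdeal ℓ').support) :
    ∃ t : Γ(C, ⊤), sec' φ ℓ' = t • sec' φ ℓ := by
  refine K709.GenHyp.exists_quot _ _ fun x => ?_
  obtain ⟨y, hxy, hyc⟩ := exists_closed_spec x
  obtain ⟨j, hj⟩ := exists_chart φ y
  obtain ⟨g, hg, hgG⟩ := exists_gen_pull (d := 1) φ j
  have hyU : y ∈ φ ⁻¹ᵁ chart n k j := hj
  have hxU : x ∈ φ ⁻¹ᵁ chart n k j := hxy.mem_open (φ ⁻¹ᵁ chart n k j).isOpen hyU
  refine ⟨φ ⁻¹ᵁ chart n k j, hxU, g, eqn φ j _ le_rfl ℓ, eqn φ j _ le_rfl ℓ', hg, hgG ℓ, hgG ℓ', ?_, ?_⟩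
  · intro h0
    apply hℓ y hyc j hj
    have h1 := germ_eqn φ j (φ ⁻¹ᵁ chart n k j) le_rfl y hyU ℓ
    rw [h0, map_zero] at h1
    rw [← h1]
    exact zero_mem _
  · have hreg := hsm y
    have hd : ringKrullDim (C.presheaf.stalk y) ≤ 1 :=
      (Groth.Agent.CurvesB.DimPts.ringKrullDim_stalk_le y).trans hdim
    have h1 : stalkEqn φ j y hj ℓ ∣ stalkEqn φ j y hj ℓ' :=
      dvd_of_not_mem_sq hd _ _ (hℓ y hyc j hj) fun h2 => by
        rw [← mem_hyp_iff] at h2 ⊢
        exact h y h2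
    rw [← germ_eqn φ j (φ ⁻¹ᵁ chart n k j) le_rfl y hyU, ← germ_eqn φ j (φ ⁻¹ᵁ chart n k j) le_rfl y hyU] at h1
    have h2 := map_dvd (C.presheaf.stalkSpecializes hxy).hom h1
    have h3 : ∀ s : Γ(C, φ ⁻¹ᵁ chart n k j), (C.presheaf.stalkSpecializes hxy).hom
        (C.presheaf.germ (φ ⁻¹ᵁ chart n k j) y hyU s) = C.presheaf.germ (φ ⁻¹ᵁ chart n k j) x hxU s := by
      intro s
      have h4 := C.presheaf.germ_stalkSpecializes hyU hxy
      exact congrArg (fun ψ => ψ.hom s) h4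
    rw [h3, h3] at h2
    exact h2

theorem sec'_sub_smul [C.Over (Spec (CommRingCat.of k))] (φ : C ⟶ CohB1.ProjSpace n k)
    (hφ : φ ≫ CohB1.ProjSpace.toSpec n k = C ↘ Spec (CommRingCat.of k)) {d : ℕ} (G G' : Form n k d) (c : k)
    (h : sec' φ G' = gl k C c • sec' φ G) : sec' φ (G' - c • G) = 0 := by
  have h1 : sec' φ (G' - c • G) + sec' φ (c • G) = sec' φ G' := by
    rw [← sec'_add, sub_add_cancel]
  rw [sec'_smul C φ hφ, h] at h1
  exact add_eq_right.mp h1

/-- **Main lemma.**  A form vanishing on the points of a hyperplane section without double points is a multiple. -/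
theorem exists_smul [IsAlgClosed k] [C.Over (Spec (CommRingCat.of k))] [IsIntegral C]
    [IsProper (C ↘ Spec (CommRingCat.of k))] (hdim : topologicalKrullDim C ≤ 1)
    (hsm : ∀ x : C, IsRegularLocalRing (C.presheaf.stalk x)) (φ : C ⟶ CohB1.ProjSpace n k)
    (hφ : φ ≫ CohB1.ProjSpace.toSpec n k = C ↘ Spec (CommRingCat.of k))
    (hnd : ∀ ℓ : Form n k 1, ℓ ≠ 0 → sec' φ ℓ ≠ 0) (ℓ ℓ' : Form n k 1)
    (hℓ : ∀ x : C, IsClosed ({x} : Set C) → ∀ (j : Fin (n + 1)) (hx : φ x ∈ chart n k j),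
      stalkEqn φ j x hx ℓ ∉ maximalIdeal (C.presheaf.stalk x) ^ 2)
    (h : ∀ x : C, φ x ∈ (hypIdeal ℓ).support → φ x ∈ (hypIdeal ℓ').support) :
    ∃ c : k, ℓ' = c • ℓ := by
  have hc : CompactSpace C :=
    HasAffineProperty.iff_of_isAffine.mp (inferInstance : QuasiCompact (C ↘ Spec (CommRingCat.of k)))
  obtain ⟨t, ht⟩ := exists_quot_sec hdim hsm φ ℓ ℓ' hℓ h
  obtain ⟨c, rfl⟩ := exists_const (k := k) (X := C) (Groth.Agent.VarietyA.CurveFin.finrank_h0_structure k C) t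
  refine ⟨c, ?_⟩
  have h1 := sec'_sub_smul φ hφ ℓ ℓ' c ht
  by_contra hne
  exact hnd _ (sub_ne_zero.mpr hne) h1

/-- A hyperplane section without double points is not all of `C`. -/
theorem exists_not_mem [IsAlgClosed k] [C.Over (Spec (CommRingCat.of k))] [IsIntegral C]
    [IsProper (C ↘ Spec (CommRingCat.of k))] (φ : C ⟶ CohB1.ProjSpace n k) (ℓ : Form n k 1)
    (hℓ : ∀ x : C, IsClosed ({x} : Set C) → ∀ (j : Fin (n + 1)) (hx : φ x ∈ chart n k j),
      stalkEqn φ j x hx ℓ ∉ maximalIdeal (C.presheaf.stalk x) ^ 2) :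
    ∃ x : C, IsClosed ({x} : Set C) ∧ φ x ∉ (hypIdeal ℓ).support := by
  by_contra hcon
  push Not at hcon
  have hc : CompactSpace C :=
    HasAffineProperty.iff_of_isAffine.mp (inferInstance : QuasiCompact (C ↘ Spec (CommRingCat.of k)))
  have hJ : JacobsonSpace C := LocallyOfFiniteType.jacobsonSpace (C ↘ Spec (CommRingCat.of k))
  have hcl : IsClosed (φ.base ⁻¹' ((hypIdeal ℓ).support : Set _)) :=
    (hypIdeal ℓ).support.isClosed.preimage φ.continuous
  have hall : ∀ x : C, φ x ∈ (hypIdeal ℓ).support := by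
    intro x
    have h1 : closure (closedPoints C) = Set.univ := closure_closedPoints
    have h2 : closedPoints C ⊆ φ.base ⁻¹' ((hypIdeal ℓ).support : Set _) := fun y hy => hcon y hy
    have h3 := hcl.closure_subset_iff.mpr h2
    rw [h1] at h3
    exact h3 (Set.mem_univ x)
  obtain ⟨y, hy, hyc⟩ := exists_closed_spec (genericPoint C)
  obtain ⟨j, hj⟩ := exists_chart φ y
  have hyU : y ∈ φ ⁻¹ᵁ chart n k j := hj
  have hxU : genericPoint C ∈ φ ⁻¹ᵁ chart n k j := hy.mem_open (φ ⁻¹ᵁ chart n k j).isOpen hyU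
  have h1 := (mem_hyp_iff φ ℓ j (genericPoint C) hxU).mp (hall _)
  have hf : IsField (C.presheaf.stalk (genericPoint C)) := Field.toIsField C.functionField
  rw [isField_iff_maximalIdeal_eq.mp hf, Ideal.mem_bot, ← germ_eqn φ j (φ ⁻¹ᵁ chart n k j) le_rfl _ hxU] at h1
  have hne : Nonempty (φ ⁻¹ᵁ chart n k j : C.Opens) := ⟨⟨y, hyU⟩⟩
  have h2 : eqn φ j (φ ⁻¹ᵁ chart n k j) le_rfl ℓ = 0 := by
    refine Scheme.germToFunctionField_injective C (φ ⁻¹ᵁ chart n k j) ?_
    rw [map_zero]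
    exact h1
  apply hℓ y hyc j hj
  rw [← germ_eqn φ j (φ ⁻¹ᵁ chart n k j) le_rfl y hyU, h2, map_zero]
  exact zero_mem _

theorem stalkEqn_smul [C.Over (Spec (CommRingCat.of k))] (φ : C ⟶ CohB1.ProjSpace n k)
    (hφ : φ ≫ CohB1.ProjSpace.toSpec n k = C ↘ Spec (CommRingCat.of k)) {d : ℕ} (j : Fin (n + 1)) (x : C)
    (hx : φ x ∈ chart n k j) (c : k) (G : Form n k d) :
    stalkEqn φ j x hx (c • G) = toStalk k (C ↘ Spec (CommRingCat.of k)) x c * stalkEqn φ j x hx G := by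
  rw [← germ_eqn φ j (φ ⁻¹ᵁ chart n k j) le_rfl x hx, ← germ_eqn φ j (φ ⁻¹ᵁ chart n k j) le_rfl x hx,
    eqn_smul C φ hφ, map_mul]
  congr 1
  exact C.presheaf.germ_res_apply (homOfLE le_top) x hx _

theorem stalkEqn_add (φ : C ⟶ CohB1.ProjSpace n k) {d : ℕ} (j : Fin (n + 1)) (x : C)
    (hx : φ x ∈ chart n k j) (G G' : Form n k d) :
    stalkEqn φ j x hx (G + G') = stalkEqn φ j x hx G + stalkEqn φ j x hx G' := by
  rw [← germ_eqn φ j (φ ⁻¹ᵁ chart n k j) le_rfl x hx, ← germ_eqn φ j (φ ⁻¹ᵁ chart n k j) le_rfl x hx,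
    ← germ_eqn φ j (φ ⁻¹ᵁ chart n k j) le_rfl x hx, eqn_eq, eqn_eq, eqn_eq, ← map_add]
  have h : (G + G').1 = G.1 + G'.1 := rfl
  rw [h, map_add, map_add]

/-- A pencil has a member through a given closed point. -/
theorem exists_pencil [IsAlgClosed k] [C.Over (Spec (CommRingCat.of k))]
    [LocallyOfFiniteType (C ↘ Spec (CommRingCat.of k))] (φ : C ⟶ CohB1.ProjSpace n k)
    (hφ : φ ≫ CohB1.ProjSpace.toSpec n k = C ↘ Spec (CommRingCat.of k)) {d : ℕ} (x : C)
    (hx : IsClosed ({x} : Set C)) (G G' : Form n k d) :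
    ∃ a b : k, (a ≠ 0 ∨ b ≠ 0) ∧ φ x ∈ (hypIdeal (a • G + b • G')).support := by
  obtain ⟨j, hj⟩ := exists_chart φ x
  obtain ⟨c, hc⟩ := Groth.Agent.Lefpen.H705.ClosedPoint.exists_sub_toStalk_mem
    (C ↘ Spec (CommRingCat.of k)) x hx (stalkEqn φ j x hj G)
  obtain ⟨c', hc'⟩ := Groth.Agent.Lefpen.H705.ClosedPoint.exists_sub_toStalk_mem
    (C ↘ Spec (CommRingCat.of k)) x hx (stalkEqn φ j x hj G')
  set T := toStalk k (C ↘ Spec (CommRingCat.of k)) x with hT
  by_cases h0 : c = 0 ∧ c' = 0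
  · refine ⟨1, 0, Or.inl one_ne_zero, ?_⟩
    rw [one_smul, zero_smul, add_zero, mem_hyp_iff φ G j x hj]
    rw [h0.1, map_zero, sub_zero] at hc
    exact hc
  · refine ⟨c', -c, ?_, ?_⟩
    · by_contra hcon
      push Not at hcon
      exact h0 ⟨neg_eq_zero.mp hcon.2, hcon.1⟩
    · rw [mem_hyp_iff φ _ j x hj, stalkEqn_add, stalkEqn_smul φ hφ, stalkEqn_smul φ hφ]
      have h1 : T c' * stalkEqn φ j x hj G + T (-c) * stalkEqn φ j x hj G' =
          T c' * (stalkEqn φ j x hj G - T c) - T c * (stalkEqn φ j x hj G' - T c') := by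
        rw [map_neg]; ring
      rw [h1]
      exact sub_mem (Ideal.mul_mem_left _ _ hc) (Ideal.mul_mem_left _ _ hc')

end K709.HypSpan
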