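import Groth.Agent.Curves.K709.HypSpan
import Groth.Prelude.Def_Omega4
import Groth.Prelude.Def_LinSer

/-!
# Two projections of a curve with non-spanning hyperplane sections
-/

set_option autoImplicit false
universe u

open CategoryTheory AlgebraicGeometry Limits TopologicalSpace Opposite

namespace K709.HypSpan

open LefPen Groth.Agent.Fdesc.LocGen Groth.Agent.Lefpen.H705.HypIdeal Groth.Agent.Lefpen.H705.SecIdeal
open Groth.Agent.CurvesB.HZero K330.FormSec IsLocalRing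
open Groth.Agent.Lefpen.H708.Geo K709.GenGood Groth.Agent.Lefpen.H702.PolyFun

variable {n : ℕ} {k : Type u} [Field k] {C : Scheme.{u}}

theorem glob_ne_zero (x : CohB1.ProjSpace n k) {d : ℕ} (G : Form n k d) (hG : G ≠ 0) : glob G ≠ 0 := by
  intro h
  have h1 := tv_glob G ⟨x, trivial⟩
  rw [h] at h1
  have h2 : tv (0 : Γ(Twist.twistProjSpace n k (d : ℤ), ⊤)) ⟨x, trivial⟩ = 0 := rfl
  rw [h2] at h1
  apply hG
  apply Subtype.ext
  have h3 : Function.Injective (algebraMap (MvPolynomial (Fin (n + 1)) k)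
      (Twist.Loc (CohB1.polyGrading n k) x)) := by
    refine IsLocalization.injective _ (M := x.asHomogeneousIdeal.toIdeal.primeCompl) ?_
    exact Ideal.primeCompl_le_nonZeroDivisors _
  exact h3 (h1.symm.trans (map_zero _).symm)

theorem pullTop_ne_zero (φ : C ⟶ CohB1.ProjSpace n k)
    (hnd : ∀ s : LinSer.Sect (CohB1.ProjSpace n k) (Twist.twistProjSpace n k 1), s ≠ 0 →
      OmegaSh.pullSect φ (Twist.twistProjSpace n k 1) ⊤ s ≠ 0) (e : ℤ) (he : e = 1)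
    (s : Γ(Twist.twistProjSpace n k e, ⊤)) (hs : s ≠ 0) : pullTop φ s ≠ 0 := by
  subst he
  exact hnd s hs

theorem sec'_ne_zero [hC : Nonempty C] (φ : C ⟶ CohB1.ProjSpace n k)
    (hnd : ∀ s : LinSer.Sect (CohB1.ProjSpace n k) (Twist.twistProjSpace n k 1), s ≠ 0 →
      OmegaSh.pullSect φ (Twist.twistProjSpace n k 1) ⊤ s ≠ 0) (ℓ : Form n k 1) (hℓ : ℓ ≠ 0) : sec' φ ℓ ≠ 0 :=
  pullTop_ne_zero φ hnd _ Nat.cast_one _ (glob_ne_zero (φ (Classical.choice hC)) ℓ hℓ)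

theorem main [IsAlgClosed k] [CharZero k] [C.Over (Spec (CommRingCat.of k))] [IsIntegral C]
    [IsProper (C ↘ Spec (CommRingCat.of k))] (hdim : topologicalKrullDim C ≤ 1)
    (hsm : ∀ x : C, IsRegularLocalRing (C.presheaf.stalk x)) {a b : ℕ} (φ₁ : C ⟶ CohB1.ProjSpace a k)
    (hφ₁ : φ₁ ≫ CohB1.ProjSpace.toSpec a k = C ↘ Spec (CommRingCat.of k))
    (hnd : ∀ ℓ : Form a k 1, ℓ ≠ 0 → sec' φ₁ ℓ ≠ 0) (φ₂ : C ⟶ CohB1.ProjSpace b k)
    (hφ₂ : φ₂ ≫ CohB1.ProjSpace.toSpec b k = C ↘ Spec (CommRingCat.of k))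
    (hstar₁ : ∀ ℓ : LefPen.Form a k 1, ℓ ≠ 0 → ∃ m : LefPen.Form b k 1, m ≠ 0 ∧
      ∀ x : C, φ₁.base x ∈ (LefPen.hypIdeal ℓ).support → φ₂.base x ∈ (LefPen.hypIdeal m).support)
    (hstar₂ : ∀ m : LefPen.Form b k 1, m ≠ 0 → ∃ ℓ : LefPen.Form a k 1, ℓ ≠ 0 ∧
      ∀ x : C, φ₂.base x ∈ (LefPen.hypIdeal m).support → φ₁.base x ∈ (LefPen.hypIdeal ℓ).support) :
    LefPen.IsGeneric k {ℓ : LefPen.Form a k 1 |
      (∀ ℓ' : LefPen.Form a k 1, (∀ x : C, φ₁.base x ∈ (LefPen.hypIdeal ℓ).support → φ₁.base x ∈ (LefPen.hypIdeal ℓ').support) → ∃ c : k, ℓ' = c • ℓ) ∧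
      ∃ m : LefPen.Form b k 1, m ≠ 0 ∧ (∀ x : C, (φ₁.base x ∈ (LefPen.hypIdeal ℓ).support ↔ φ₂.base x ∈ (LefPen.hypIdeal m).support)) ∧
        ∀ m' : LefPen.Form b k 1, (∀ x : C, φ₁.base x ∈ (LefPen.hypIdeal ℓ).support → φ₂.base x ∈ (LefPen.hypIdeal m').support) → ∃ c : k, m' = c • m} := by
  have hcpt : CompactSpace C :=
    HasAffineProperty.iff_of_isAffine.mp (inferInstance : QuasiCompact (C ↘ Spec (CommRingCat.of k)))
  have hln : IsLocallyNoetherian C := LocallyOfFiniteType.isLocallyNoetherian (C ↘ Spec (CommRingCat.of k))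
  have hN : IsNoetherian C := {}
  refine IsGeneric.mono (generic_good φ₁ _ hφ₁) fun ℓ hℓ => ?_
  have hA := fun ℓ' h => exists_smul hdim hsm φ₁ hφ₁ hnd ℓ ℓ' hℓ h
  refine ⟨hA, ?_⟩
  obtain ⟨x₀, hx₀c, hx₀⟩ := exists_not_mem φ₁ ℓ hℓ
  have hℓ0 : ℓ ≠ 0 := by
    rintro rfl
    obtain ⟨j, hj⟩ := exists_chart φ₁ x₀
    apply hx₀
    rw [mem_hyp_iff φ₁ _ j x₀ hj]
    have h1 : stalkEqn φ₁ j x₀ hj (0 : Form a k 1) = 0 := by
      have h2 := stalkEqn_add φ₁ j x₀ hj (0 : Form a k 1) 0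
      rw [add_zero] at h2
      exact left_eq_add.mp h2
    rw [h1]
    exact zero_mem _
  -- any nonzero form on `P^b` vanishing on `C ∩ V(ℓ)` cuts out the same points
  have hB : ∀ m : Form b k 1, m ≠ 0 →
      (∀ x : C, φ₁.base x ∈ (hypIdeal ℓ).support → φ₂.base x ∈ (hypIdeal m).support) →
      ∀ x : C, φ₂.base x ∈ (hypIdeal m).support → φ₁.base x ∈ (hypIdeal ℓ).support := by
    intro m hm h1 x hx
    obtain ⟨ℓ'', hℓ'', h2⟩ := hstar₂ m hm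
    obtain ⟨c, hc⟩ := hA ℓ'' fun y hy => h2 y (h1 y hy)
    have hc0 : c ≠ 0 := by
      rintro rfl
      exact hℓ'' (by rw [hc, zero_smul])
    have h3 := h2 x hx
    obtain ⟨j, hj⟩ := exists_chart φ₁ x
    have h4 := (mem_hyp_iff φ₁ ℓ'' j x hj).mp h3
    refine (mem_hyp_iff φ₁ ℓ j x hj).mpr ?_
    rw [hc, stalkEqn_smul φ₁ hφ₁] at h4
    have hu : IsUnit (toStalk k (C ↘ Spec (CommRingCat.of k)) x c) := (IsUnit.mk0 c hc0).map _
    exact (Ideal.unit_mul_mem_iff_mem _ hu).mp h4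
  obtain ⟨m, hm, hm'⟩ := hstar₁ ℓ hℓ0
  refine ⟨m, hm, fun x => ⟨hm' x, hB m hm hm' x⟩, fun m' h' => ?_⟩
  by_contra hcon
  push Not at hcon
  obtain ⟨α, β, hαβ, hx⟩ := exists_pencil φ₂ hφ₂ x₀ hx₀c m m'
  have hne : α • m + β • m' ≠ 0 := by
    intro h0
    by_cases hβ : β = 0
    · subst hβ
      rw [zero_smul, add_zero] at h0
      rcases smul_eq_zero.mp h0 with h1 | h1
      · exact hαβ.elim (fun h => h h1) (fun h => h rfl)
      · exact hm h1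
    · apply hcon (-(β⁻¹ * α))
      have h1 : β • m' = -(α • m) := eq_neg_of_add_eq_zero_right h0
      calc m' = β⁻¹ • (β • m') := by rw [smul_smul, inv_mul_cancel₀ hβ, one_smul]
        _ = -((β⁻¹ * α) • m) := by rw [h1, smul_neg, smul_smul]
        _ = (-(β⁻¹ * α)) • m := (neg_smul _ _).symm
  refine hx₀ (hB _ hne (fun x h => ?_) x₀ hx)
  obtain ⟨j, hj⟩ := exists_chart φ₂ x
  refine (mem_hyp_iff φ₂ _ j x hj).mpr ?_
  rw [stalkEqn_add, stalkEqn_smul φ₂ hφ₂, stalkEqn_smul φ₂ hφ₂]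
  exact add_mem (Ideal.mul_mem_left _ _ ((mem_hyp_iff φ₂ m j x hj).mp (hm' x h)))
    (Ideal.mul_mem_left _ _ ((mem_hyp_iff φ₂ m' j x hj).mp (h' x h)))

end K709.HypSpan
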