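import Groth.Agent.Curves.K709.HypSpan
import Groth.Agent.Curves.K319.PnSep

/-!
# Ratios of linear forms on a variety with a projection to the projective line

`φ : C ⟶ P^n_k`, `ψ : C ⟶ P^1_k`, `L 0, L 1` linear forms with `ψ = [L 0 : L 1] ∘ φ` pointwise.
* `ratio j ℓ : Γ(C, ψ⁻¹ D_+(T_j))` is `φ^* (ℓ / L_j)`;
* `germ_ratio_mem_iff`, `ratio_add`, `ratio_smul`, `ratio_overlap`, `ratio_L`.
-/

set_option autoImplicit false
universe u

open CategoryTheory AlgebraicGeometry Limits TopologicalSpace Opposite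

namespace K709.LinProj

open LefPen Groth.Agent.Fdesc.LocGen Groth.Agent.Lefpen.H705.HypIdeal Groth.Agent.Lefpen.H705.SecIdeal
open Groth.Agent.CurvesB.HZero K330.FormSec IsLocalRing
open Groth.Agent.Lefpen.H708.Geo K709.GenGood K709.HypSpan Groth.Agent.Sga5

variable {n : ℕ} {k : Type u} [Field k] {C : Scheme.{u}}

/-- The coordinate forms. -/
noncomputable abbrev T (n : ℕ) (k : Type u) [Field k] (j : Fin (n + 1)) : Form n k 1 :=
  ⟨MvPolynomial.X j, LefPen.X_mem n k j⟩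

theorem eqn_T_self (ψ : C ⟶ CohB1.ProjSpace n k) (j : Fin (n + 1)) (U : C.Opens) (hU : U ≤ ψ ⁻¹ᵁ chart n k j) :
    eqn ψ j U hU (T n k j) = 1 := by
  rw [eqn_eq, ProjChart.dehom_X_self, map_one]

theorem stalkEqn_T_self (ψ : C ⟶ CohB1.ProjSpace n k) (j : Fin (n + 1)) (x : C) (hx : ψ x ∈ chart n k j) :
    stalkEqn ψ j x hx (T n k j) = 1 := by
  rw [← germ_eqn ψ j (ψ ⁻¹ᵁ chart n k j) le_rfl x hx, eqn_T_self, map_one]

theorem mem_chart_iff (ψ : C ⟶ CohB1.ProjSpace n k) (j : Fin (n + 1)) (x : C) :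
    ψ x ∈ chart n k j ↔ ψ x ∉ (hypIdeal (T n k j)).support := by
  constructor
  · intro h h'
    rw [mem_hyp_iff ψ _ j x h, stalkEqn_T_self, mem_maximalIdeal, mem_nonunits_iff] at h'
    exact h' isUnit_one
  · intro h
    obtain ⟨m, hm⟩ := exists_chart ψ x
    rw [mem_hyp_iff ψ _ m x hm, mem_maximalIdeal, mem_nonunits_iff, not_not,
      ← germ_eqn ψ m (ψ ⁻¹ᵁ chart n k m) le_rfl x hm] at h
    refine K319.PnSep.mem_chart_of_isUnit ψ m j x hm ?_
    rw [← K319.PnSep.germ_app_dehom ψ (T n k j) m x hm]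
    have e : eqn ψ m (ψ ⁻¹ᵁ chart n k m) le_rfl (T n k j) = ψ.app (chart n k m) (dehom (T n k j) m) := by
      rw [eqn, Scheme.Hom.app_eq_appLE]
    rw [← e]
    exact h

/-- A function which lies in every maximal ideal of closed points vanishes. -/
theorem eq_zero_of_forall_mem [IsReduced C] [JacobsonSpace C] {U : C.Opens} (δ : Γ(C, U))
    (h : ∀ (x : C) (hx : x ∈ U), IsClosed ({x} : Set C) →
      C.presheaf.germ U x hx δ ∈ maximalIdeal (C.presheaf.stalk x)) : δ = 0 := by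
  rw [← basicOpen_eq_bot_iff]
  by_contra hne
  have h1 : ((C.basicOpen δ : C.Opens) : Set C).Nonempty := by
    rw [Set.nonempty_iff_ne_empty]
    intro h0
    apply hne
    ext x
    have : x ∉ ((C.basicOpen δ : C.Opens) : Set C) := by rw [h0]; exact Set.notMem_empty x
    exact ⟨fun h => absurd h this, fun h => absurd h (by simp)⟩
  obtain ⟨x, hx, hxc⟩ := nonempty_inter_closedPoints h1 (C.basicOpen δ).isOpen.isLocallyClosed
  have hxU : x ∈ U := C.basicOpen_le δ hx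
  have h2 := (Scheme.mem_basicOpen C δ x hxU).mp hx
  exact (mem_nonunits_iff.mp ((mem_maximalIdeal _).mp (h x hxU hxc))) h2

section Ratio

variable (φ : C ⟶ CohB1.ProjSpace n k) (ψ : C ⟶ CohB1.ProjSpace 1 k) (L : Fin 2 → Form n k 1)

/-- The pointwise description of the projection. -/
def IsProjn : Prop := ∀ (x : C) (c₀ c₁ : k),
  ψ x ∈ (hypIdeal (c₀ • T 1 k 0 + c₁ • T 1 k 1)).support ↔ φ x ∈ (hypIdeal (c₀ • L 0 + c₁ • L 1)).support

variable {φ ψ L}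

theorem IsProjn.mem_chart_iff (H : IsProjn φ ψ L) (j : Fin 2) (x : C) :
    ψ x ∈ chart 1 k j ↔ φ x ∉ (hypIdeal (L j)).support := by
  rw [LinProj.mem_chart_iff]
  fin_cases j
  · have h := H x 1 0
    simp only [one_smul, zero_smul, add_zero] at h
    exact not_congr h
  · have h := H x 0 1
    simp only [one_smul, zero_smul, zero_add] at h
    exact not_congr h

theorem IsProjn.sub_iff (H : IsProjn φ ψ L) (i j : Fin 2) (c : k) (x : C) :
    ψ x ∈ (hypIdeal (T 1 k j - c • T 1 k i)).support ↔ φ x ∈ (hypIdeal (L j - c • L i)).support := by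
  have key : ∀ (V : Type u) [AddCommGroup V] [Module k V] (v : Fin 2 → V), ∀ i j : Fin 2,
      v j - c • v i = ((if j = 0 then (1 : k) else 0) - c * (if i = 0 then 1 else 0)) • v 0 +
        ((if j = 1 then (1 : k) else 0) - c * (if i = 1 then 1 else 0)) • v 1 := by
    intro V _ _ v i j
    fin_cases i <;> fin_cases j <;> simp [sub_smul] <;> abel
  have h1 := key (Form 1 k 1) (T 1 k) i j
  have h2 := key (Form n k 1) L i j
  rw [h1, h2]
  exact H x _ _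

/-- The section `L j` generates `φ^* O(1)` over `ψ⁻¹ D_+(T_j)`. -/
theorem isGen_L (H : IsProjn φ ψ L) (j : Fin 2) :
    IsGen (res ((Scheme.Modules.pullback φ).obj (Twist.twistProjSpace n k ((1 : ℕ) : ℤ)))
      (le_top : ψ ⁻¹ᵁ chart 1 k j ≤ ⊤) (sec' φ (L j))) := by
  rw [isGen_iff_forall_exists]
  intro x hx
  obtain ⟨m, hm⟩ := exists_chart φ x
  obtain ⟨g, hg, hgG⟩ := exists_gen_pull (d := 1) φ m
  let W : C.Opens := ψ ⁻¹ᵁ chart 1 k j ⊓ φ ⁻¹ᵁ chart n k m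
  refine ⟨W, inf_le_left, ⟨hx, hm⟩, ?_⟩
  rw [res_res]
  have h1 := congrArg (res _ (inf_le_right : W ≤ φ ⁻¹ᵁ chart n k m)) (hgG (L j))
  rw [res_res, res_smul] at h1
  rw [h1]
  refine (hg.res inf_le_right).unit_smul ?_
  refine C.toLocallyRingedSpace.toRingedSpace.isUnit_of_isUnit_germ W _ fun y hy => ?_
  have h2 : C.presheaf.germ W y hy (ores inf_le_right (eqn φ m (φ ⁻¹ᵁ chart n k m) le_rfl (L j))) =
      stalkEqn φ m y hy.2 (L j) := by
    rw [← germ_eqn φ m (φ ⁻¹ᵁ chart n k m) le_rfl y hy.2]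
    exact C.presheaf.germ_res_apply (homOfLE inf_le_right) y hy _
  have h3 : IsUnit (stalkEqn φ m y hy.2 (L j)) := by
    by_contra hn
    have h4 := (mem_hyp_iff φ (L j) m y hy.2).mpr ((mem_maximalIdeal _).mpr hn)
    exact (H.mem_chart_iff j y).mp hy.1 h4
  rw [← h2] at h3
  exact h3

/-- `φ^* (ℓ / L_j)` on `ψ⁻¹ D_+(T_j)`. -/
noncomputable def ratio (H : IsProjn φ ψ L) (j : Fin 2) (ℓ : Form n k 1) : Γ(C, ψ⁻¹ᵁ chart 1 k j) :=
  ((isGen_L H j).exists_eq (res _ le_top (sec' φ ℓ))).choose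

theorem ratio_spec (H : IsProjn φ ψ L) (j : Fin 2) (ℓ : Form n k 1) :
    res ((Scheme.Modules.pullback φ).obj (Twist.twistProjSpace n k ((1 : ℕ) : ℤ)))
      (le_top : ψ ⁻¹ᵁ chart 1 k j ≤ ⊤) (sec' φ ℓ) = ratio H j ℓ • res _ le_top (sec' φ (L j)) :=
  ((isGen_L H j).exists_eq (res _ le_top (sec' φ ℓ))).choose_spec

theorem ratio_unique (H : IsProjn φ ψ L) (j : Fin 2) (ℓ : Form n k 1) (a : Γ(C, ψ⁻¹ᵁ chart 1 k j))
    (h : res ((Scheme.Modules.pullback φ).obj (Twist.twistProjSpace n k ((1 : ℕ) : ℤ)))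
      (le_top : ψ ⁻¹ᵁ chart 1 k j ≤ ⊤) (sec' φ ℓ) = a • res _ le_top (sec' φ (L j))) : ratio H j ℓ = a :=
  (isGen_L H j).ext (by rw [← ratio_spec, h])

theorem ratio_self (H : IsProjn φ ψ L) (j : Fin 2) : ratio H j (L j) = 1 :=
  ratio_unique H j _ _ (by rw [one_smul])

theorem ratio_add (H : IsProjn φ ψ L) (j : Fin 2) (ℓ ℓ' : Form n k 1) :
    ratio H j (ℓ + ℓ') = ratio H j ℓ + ratio H j ℓ' :=
  ratio_unique H j _ _ (by rw [sec'_add, map_add, ratio_spec, ratio_spec H j ℓ', add_smul])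

theorem ratio_smul [C.Over (Spec (CommRingCat.of k))]
    (hφ : φ ≫ CohB1.ProjSpace.toSpec n k = C ↘ Spec (CommRingCat.of k)) (H : IsProjn φ ψ L) (j : Fin 2)
    (c : k) (ℓ : Form n k 1) :
    ratio H j (c • ℓ) = ores le_top (gl k C c) * ratio H j ℓ :=
  ratio_unique H j _ _ (by rw [sec'_smul C φ hφ, res_smul, ratio_spec, mul_smul])

theorem ratio_overlap (H : IsProjn φ ψ L) (i j : Fin 2) (ℓ : Form n k 1) :
    ores (inf_le_left : ψ ⁻¹ᵁ chart 1 k i ⊓ ψ ⁻¹ᵁ chart 1 k j ≤ _) (ratio H i ℓ) =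
      ores inf_le_left (ratio H i (L j)) * ores inf_le_right (ratio H j ℓ) := by
  have h1 := congrArg (res _ (inf_le_left : ψ ⁻¹ᵁ chart 1 k i ⊓ ψ ⁻¹ᵁ chart 1 k j ≤ _)) (ratio_spec H i ℓ)
  have h2 := congrArg (res _ (inf_le_left : ψ ⁻¹ᵁ chart 1 k i ⊓ ψ ⁻¹ᵁ chart 1 k j ≤ _)) (ratio_spec H i (L j))
  have h3 := congrArg (res _ (inf_le_right : ψ ⁻¹ᵁ chart 1 k i ⊓ ψ ⁻¹ᵁ chart 1 k j ≤ _)) (ratio_spec H j ℓ)
  rw [res_smul, res_res, res_res] at h1 h2 h3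
  refine ((isGen_L H i).res (inf_le_left : ψ ⁻¹ᵁ chart 1 k i ⊓ ψ ⁻¹ᵁ chart 1 k j ≤ _)).ext ?_
  rw [res_res, ← h1, h3, h2, smul_smul, mul_comm]

theorem germ_ratio (H : IsProjn φ ψ L) (j : Fin 2) (ℓ : Form n k 1) (x : C) (hx : ψ x ∈ chart 1 k j)
    (m : Fin (n + 1)) (hm : φ x ∈ chart n k m) :
    stalkEqn φ m x hm ℓ = C.presheaf.germ (ψ ⁻¹ᵁ chart 1 k j) x hx (ratio H j ℓ) * stalkEqn φ m x hm (L j) := by
  obtain ⟨g, hg, hgG⟩ := exists_gen_pull (d := 1) φ m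
  let W : C.Opens := ψ ⁻¹ᵁ chart 1 k j ⊓ φ ⁻¹ᵁ chart n k m
  have hxW : x ∈ W := ⟨hx, hm⟩
  have h1 := congrArg (res _ (inf_le_right : W ≤ φ ⁻¹ᵁ chart n k m)) (hgG (L j))
  have h2 := congrArg (res _ (inf_le_right : W ≤ φ ⁻¹ᵁ chart n k m)) (hgG ℓ)
  have h3 := congrArg (res _ (inf_le_left : W ≤ ψ ⁻¹ᵁ chart 1 k j)) (ratio_spec H j ℓ)
  rw [res_res, res_smul] at h1 h2
  rw [res_res, res_smul, res_res, h1, h2, smul_smul] at h3
  have h4 := (hg.res (inf_le_right : W ≤ φ ⁻¹ᵁ chart n k m)).ext h3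
  have h5 := congrArg (C.presheaf.germ W x hxW) h4
  rw [map_mul] at h5
  have e : ∀ G : Form n k 1, C.presheaf.germ W x hxW (ores inf_le_right (eqn φ m (φ ⁻¹ᵁ chart n k m) le_rfl G)) =
      stalkEqn φ m x hm G := by
    intro G
    rw [← germ_eqn φ m (φ ⁻¹ᵁ chart n k m) le_rfl x hm]
    exact C.presheaf.germ_res_apply (homOfLE inf_le_right) x hxW _
  rw [e, e] at h5
  rw [h5]
  congr 1
  exact C.presheaf.germ_res_apply (homOfLE inf_le_left) x hxW _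

theorem germ_ratio_mem_iff (H : IsProjn φ ψ L) (j : Fin 2) (ℓ : Form n k 1) (x : C) (hx : ψ x ∈ chart 1 k j) :
    C.presheaf.germ (ψ ⁻¹ᵁ chart 1 k j) x hx (ratio H j ℓ) ∈ maximalIdeal (C.presheaf.stalk x) ↔
      φ x ∈ (hypIdeal ℓ).support := by
  obtain ⟨m, hm⟩ := exists_chart φ x
  rw [mem_hyp_iff φ ℓ m x hm, germ_ratio H j ℓ x hx m hm]
  have hu : IsUnit (stalkEqn φ m x hm (L j)) := by
    by_contra hn
    exact (H.mem_chart_iff j x).mp hx ((mem_hyp_iff φ (L j) m x hm).mpr ((mem_maximalIdeal _).mpr hn))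
  exact (Ideal.mul_unit_mem_iff_mem _ hu).symm

theorem germ_gl [C.Over (Spec (CommRingCat.of k))] {U : C.Opens} (x : C) (hx : x ∈ U) (c : k) :
    C.presheaf.germ U x hx (ores le_top (gl k C c)) = toStalk k (C ↘ Spec (CommRingCat.of k)) x c :=
  C.presheaf.germ_res_apply (homOfLE le_top) x hx _

/-- `φ^* (L_j / L_i) = ψ^* (T_j / T_i)`. -/
theorem ratio_L [IsAlgClosed k] [C.Over (Spec (CommRingCat.of k))] [IsReduced C]
    [LocallyOfFiniteType (C ↘ Spec (CommRingCat.of k))]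
    (hφ : φ ≫ CohB1.ProjSpace.toSpec n k = C ↘ Spec (CommRingCat.of k))
    (hψ : ψ ≫ CohB1.ProjSpace.toSpec 1 k = C ↘ Spec (CommRingCat.of k)) (H : IsProjn φ ψ L) (i j : Fin 2) :
    ratio H i (L j) = eqn ψ i (ψ ⁻¹ᵁ chart 1 k i) le_rfl (T 1 k j) := by
  have hJ : JacobsonSpace C := LocallyOfFiniteType.jacobsonSpace (C ↘ Spec (CommRingCat.of k))
  rw [← sub_eq_zero]
  refine eq_zero_of_forall_mem _ fun x hx hxc => ?_
  obtain ⟨c, hc⟩ := Groth.Agent.Lefpen.H705.ClosedPoint.exists_sub_toStalk_mem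
    (C ↘ Spec (CommRingCat.of k)) x hxc (C.presheaf.germ _ x hx (ratio H i (L j)))
  have h1 : C.presheaf.germ (ψ ⁻¹ᵁ chart 1 k i) x hx (ratio H i (L j - c • L i)) =
      C.presheaf.germ _ x hx (ratio H i (L j)) - toStalk k (C ↘ Spec (CommRingCat.of k)) x c := by
    have h2 := ratio_add H i (L j - c • L i) (c • L i)
    rw [sub_add_cancel, ratio_smul hφ, ratio_self, mul_one] at h2
    rw [h2, map_add, germ_gl, add_sub_cancel_right]
  rw [← h1, germ_ratio_mem_iff, ← H.sub_iff i j c x, mem_hyp_iff ψ _ i x hx] at hc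
  have h3 : stalkEqn ψ i x hx (T 1 k j - c • T 1 k i) =
      stalkEqn ψ i x hx (T 1 k j) - toStalk k (C ↘ Spec (CommRingCat.of k)) x c := by
    have h4 := stalkEqn_add ψ i x hx (T 1 k j - c • T 1 k i) (c • T 1 k i)
    rw [sub_add_cancel, stalkEqn_smul ψ hψ, stalkEqn_T_self, mul_one] at h4
    rw [h4, add_sub_cancel_right]
  rw [h3] at hc
  rw [map_sub, germ_eqn ψ i (ψ ⁻¹ᵁ chart 1 k i) le_rfl x hx]
  have h5 : C.presheaf.germ (ψ ⁻¹ᵁ chart 1 k i) x hx (ratio H i (L j)) -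
      toStalk k (C ↘ Spec (CommRingCat.of k)) x c ∈ maximalIdeal (C.presheaf.stalk x) := by
    rw [← h1, germ_ratio_mem_iff, ← H.sub_iff i j c x, mem_hyp_iff ψ _ i x hx, h3]
    exact hc
  have h6 := sub_mem h5 hc
  rwa [sub_sub_sub_cancel_right] at h6

end Ratio

end K709.LinProj
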