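import Groth.Agent.Curves.K709.PolyClosed
import Mathlib.RingTheory.Norm.Defs
import Mathlib.FieldTheory.IntermediateField.Adjoin.Basic
import Mathlib.LinearAlgebra.Matrix.Determinant.Basic

/-!
# The norm to `k(t)` of a finite dimensional space of functions is a polynomial map
-/

set_option autoImplicit false

namespace K709.NormMap

open Polynomial K709.PolyClosed

theorem det_mem {R : Type*} [CommRing R] (S : Subring R) {ι : Type*} [Fintype ι] [DecidableEq ι]
    (A : Matrix ι ι R) (hA : ∀ i j, A i j ∈ S) : A.det ∈ S := by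
  rw [Matrix.det_apply']
  exact S.sum_mem fun σ _ => S.mul_mem (intCast_mem S _) (S.prod_mem fun i _ => hA _ _)

variable {k K : Type*} [Field k] [Field K] [Algebra k K]

theorem exists_frac (t : K) (a : IntermediateField.adjoin k {t}) :
    ∃ r s : k[X], s ≠ 0 ∧ aeval t s * (a : K) = aeval t r := by
  obtain ⟨r, s, hrs⟩ := (IntermediateField.mem_adjoin_simple_iff k (a : K)).1 a.2
  by_cases hs : aeval t s = 0
  · refine ⟨0, 1, one_ne_zero, ?_⟩
    rw [hs, div_zero] at hrs
    rw [hrs, mul_zero, map_zero]
  · refine ⟨r, s, ?_, ?_⟩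
    · rintro rfl
      exact hs (map_zero _)
    · rw [hrs, mul_div_cancel₀ _ hs]

theorem exists_norm_map (t : K) [FiniteDimensional (IntermediateField.adjoin k {t}) K]
    {V : Type*} [AddCommGroup V] [Module k V] [Module.Finite k V] (f : V →ₗ[k] K) :
    ∃ E : k[X], E ≠ 0 ∧ ∃ N : V → k[X], N ∈ pfx (pf k V) ∧
      ∀ v, (Algebra.norm (IntermediateField.adjoin k {t}) (aeval t E * f v) : K) = aeval t (N v) := by
  classical
  let K' := IntermediateField.adjoin k {t}
  let β := Module.finBasis K' K
  let b := Module.finBasis k V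
  let A := Algebra.leftMulMatrix β
  choose r s hs hrs using exists_frac (k := k) t
  let E : k[X] := ∏ j, ∏ i, ∏ l, s (A (f (b j)) i l)
  have hE : E ≠ 0 := Finset.prod_ne_zero_iff.2 fun j _ => Finset.prod_ne_zero_iff.2 fun i _ =>
    Finset.prod_ne_zero_iff.2 fun l _ => hs _
  have hdvd : ∀ j i l, s (A (f (b j)) i l) ∣ E := fun j i l =>
    ((Finset.dvd_prod_of_mem (fun l => s (A (f (b j)) i l)) (Finset.mem_univ l)).trans
      (Finset.dvd_prod_of_mem (fun i => ∏ l, s (A (f (b j)) i l)) (Finset.mem_univ i))).trans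
      (Finset.dvd_prod_of_mem (fun j => ∏ i, ∏ l, s (A (f (b j)) i l)) (Finset.mem_univ j))
  have hr' : ∀ j i l, ∃ r' : k[X], aeval t E * (A (f (b j)) i l : K) = aeval t r' := by
    intro j i l
    obtain ⟨E', hE'⟩ := hdvd j i l
    refine ⟨E' * r (A (f (b j)) i l), ?_⟩
    rw [hE', map_mul, map_mul, ← hrs]
    ring
  choose r' hr' using hr'
  let M : Fin (Module.finrank K' K) → Fin (Module.finrank K' K) → V → k[X] := fun i l v =>
    ∑ j, C (b.repr v j) * r' j i l
  have hM : ∀ i l, M i l ∈ pfx (pf k V) := by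
    intro i l n
    have e : (fun v => (M i l v).coeff n) = (∑ j, (r' j i l).coeff n • b.coord j : V →ₗ[k] k) := by
      funext v
      simp only [M, Polynomial.finsetSum_coeff, coeff_C_mul, LinearMap.sum_apply, LinearMap.smul_apply,
        Module.Basis.coord_apply, smul_eq_mul]
      exact Finset.sum_congr rfl fun j _ => mul_comm _ _
    rw [e]
    exact lin_mem_pf _
  let MM : Matrix (Fin (Module.finrank K' K)) (Fin (Module.finrank K' K)) (V → k[X]) := Matrix.of M
  refine ⟨E, hE, MM.det, det_mem _ _ hM, fun v => ?_⟩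
  let t' : K' := ⟨t, IntermediateField.mem_adjoin_simple_self k t⟩
  have haev : ∀ p : k[X], ((aeval t' p : K') : K) = aeval t p := fun p =>
    (Polynomial.aeval_algebraMap_apply K t' p).symm
  have hentry : ∀ i l, ((A (aeval t E * f v) i l : K') : K) = aeval t (M i l v) := by
    intro i l
    have h1 : aeval t E * f v = (aeval t' E : K') • ∑ j, (algebraMap k K' (b.repr v j)) • f (b j) := by
      rw [Algebra.smul_def]
      congr 1
      · exact (haev E).symm
      · conv_lhs => rw [← b.sum_repr v]
        rw [map_sum]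
        refine Finset.sum_congr rfl fun j _ => ?_
        rw [map_smul]
        exact (algebraMap_smul K' (b.repr v j) (f (b j))).symm
    rw [h1, map_smul, map_sum, Matrix.smul_apply, Matrix.sum_apply]
    simp only [map_smul, Matrix.smul_apply, smul_eq_mul]
    push_cast
    rw [haev, Finset.mul_sum, map_sum]
    refine Finset.sum_congr rfl fun j _ => ?_
    rw [map_mul, aeval_C, ← hr']
    exact mul_left_comm _ _ _
  rw [Algebra.norm_eq_matrix_det β]
  have h2 : ((A (aeval t E * f v)).det : K) = ((A (aeval t E * f v)).map (algebraMap K' K)).det :=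
    RingHom.map_det (algebraMap K' K) _
  refine h2.trans ?_
  have h3 : (A (aeval t E * f v)).map (algebraMap K' K) =
      ((aeval t : k[X] →ₐ[k] K) : k[X] →+* K).mapMatrix ((Pi.evalRingHom (fun _ : V => k[X]) v).mapMatrix MM) := by
    ext i l
    exact hentry i l
  rw [h3, ← RingHom.map_det, ← RingHom.map_det]
  rfl

end K709.NormMap
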