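import Mathlib.RingTheory.Ideal.GoingUp
import Mathlib.FieldTheory.IsAlgClosed.Basic
import Mathlib.Algebra.MvPolynomial.Eval
import Mathlib.Algebra.MvPolynomial.Division
import Mathlib.Algebra.Polynomial.Splits

/-!
# The monic polynomials with prescribed root multiplicities form a Zariski closed set

* `exists_sep`: a polynomial not of the form `B ∏ (X - t_i) ^ ν_i` is separated from these by a polynomial function of
  the coefficients;
* `exists_sep_map`: the projective version for polynomial valued polynomial maps.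
-/

set_option autoImplicit false

namespace K709.PolyClosed

open Polynomial

/-- The family of polynomials `B ∏ (X - t_i) ^ ν_i`. -/
noncomputable def fam {R : Type*} [CommRing R] (B : R[X]) {m : ℕ} (ν : Fin m → ℕ) (t : Fin m → R) : R[X] :=
  B * ∏ i, (X - C (t i)) ^ ν i

theorem map_fam {R S : Type*} [CommRing R] [CommRing S] (f : R →+* S) (B : R[X]) {m : ℕ} (ν : Fin m → ℕ)
    (t : Fin m → R) : (fam B ν t).map f = fam (B.map f) ν (fun i => f (t i)) := by
  simp [fam, Polynomial.map_mul, Polynomial.map_prod, Polynomial.map_pow, Polynomial.map_sub]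

theorem monic_fam {R : Type*} [CommRing R] {B : R[X]} (hB : B.Monic) {m : ℕ} (ν : Fin m → ℕ) (t : Fin m → R) :
    (fam B ν t).Monic :=
  hB.mul (monic_prod_of_monic _ _ fun i _ => (monic_X_sub_C (t i)).pow _)

theorem eval_fam {R : Type*} [CommRing R] (B : R[X]) {m : ℕ} {ν : Fin m → ℕ} (hν : ∀ i, 0 < ν i)
    (t : Fin m → R) (i : Fin m) : (fam B ν t).eval (t i) = 0 := by
  rw [fam, eval_mul, eval_prod, Finset.prod_eq_zero (Finset.mem_univ i), mul_zero]
  rw [eval_pow, eval_sub, eval_X, eval_C, sub_self, zero_pow (hν i).ne']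

variable {k : Type*} [Field k]

section psi

variable (B : k[X]) {m : ℕ} (ν : Fin m → ℕ)

/-- The generic member of the family. -/
noncomputable def gen : (MvPolynomial (Fin m) k)[X] := fam (B.map (algebraMap k _)) ν (fun i => MvPolynomial.X i)

/-- The map of coordinate rings. -/
noncomputable def psi : MvPolynomial ℕ k →ₐ[k] MvPolynomial (Fin m) k :=
  MvPolynomial.aeval fun j => (gen B ν).coeff j

theorem psi_X (j : ℕ) : psi B ν (MvPolynomial.X j) = (gen B ν).coeff j := MvPolynomial.aeval_X _ _

theorem aeval_psi (t : Fin m → k) (Q : MvPolynomial ℕ k) :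
    MvPolynomial.aeval t (psi B ν Q) = MvPolynomial.aeval (fun j => (fam B ν t).coeff j) Q := by
  have h : (MvPolynomial.aeval t).comp (psi B ν) = MvPolynomial.aeval (fun j => (fam B ν t).coeff j) := by
    apply MvPolynomial.algHom_ext
    intro j
    rw [AlgHom.comp_apply, psi_X, MvPolynomial.aeval_X]
    have h1 : (gen B ν).map (MvPolynomial.aeval t : MvPolynomial (Fin m) k →ₐ[k] k).toRingHom = fam B ν t := by
      rw [gen, map_fam]
      congr 1
      · rw [Polynomial.map_map]
        have : (MvPolynomial.aeval t : MvPolynomial (Fin m) k →ₐ[k] k).toRingHom.comp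
            (algebraMap k (MvPolynomial (Fin m) k)) = RingHom.id k := by
          ext x
          exact (MvPolynomial.aeval t : MvPolynomial (Fin m) k →ₐ[k] k).commutes x
        rw [this, Polynomial.map_id]
      · funext i
        exact MvPolynomial.aeval_X _ _
    rw [← h1, Polynomial.coeff_map]
    rfl
  exact congrArg (fun g : MvPolynomial ℕ k →ₐ[k] k => g Q) h

theorem isIntegral_psi (hB : B.Monic) (hν : ∀ i, 0 < ν i) : (psi B ν).toRingHom.IsIntegral := by
  have hX : ∀ i : Fin m, (psi B ν).toRingHom.IsIntegralElem (MvPolynomial.X i) := by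
    intro i
    have hmon : (gen B ν).Monic := monic_fam (hB.map _) ν _
    let P' : (MvPolynomial ℕ k)[X] := X ^ (gen B ν).natDegree +
      ∑ j ∈ Finset.range (gen B ν).natDegree, C (MvPolynomial.X j) * X ^ j
    have hP' : P'.Monic := by
      apply monic_X_pow_add
      refine (degree_sum_le _ _).trans_lt ?_
      refine (Finset.sup_lt_iff (WithBot.bot_lt_coe _)).2 fun j hj => ?_
      refine (degree_C_mul_X_pow_le _ _).trans_lt ?_
      exact_mod_cast Finset.mem_range.1 hj
    refine ⟨P', hP', ?_⟩
    have hmap : P'.map (psi B ν).toRingHom = gen B ν := by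
      conv_rhs => rw [hmon.as_sum]
      simp only [P', Polynomial.map_add, Polynomial.map_pow, Polynomial.map_X, Polynomial.map_sum,
        Polynomial.map_mul, Polynomial.map_C]
      congr 1
      refine Finset.sum_congr rfl fun j _ => ?_
      congr 2
      exact psi_X B ν j
    rw [← eval_map, hmap]
    exact eval_fam _ hν _ i
  intro p
  induction p using MvPolynomial.induction_on with
  | C a =>
    have : (MvPolynomial.C a : MvPolynomial (Fin m) k) = (psi B ν).toRingHom (MvPolynomial.C a) :=
      ((psi B ν).commutes a).symm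
    rw [this]
    exact RingHom.isIntegralElem_map _
  | add p q hp hq => exact hp.add _ hq
  | mul_X p i hp => exact hp.mul _ (hX i)

end psi

/-- Separation of a polynomial from the family by a polynomial function of the coefficients. -/
theorem exists_sep [IsAlgClosed k] {B : k[X]} (hB : B.Monic) {m : ℕ} {ν : Fin m → ℕ} (hν : ∀ i, 0 < ν i)
    (q₀ : k[X]) (h : ∀ t : Fin m → k, q₀ ≠ fam B ν t) :
    ∃ Q : MvPolynomial ℕ k, MvPolynomial.aeval (fun j => q₀.coeff j) Q ≠ 0 ∧
      ∀ t : Fin m → k, MvPolynomial.aeval (fun j => (fam B ν t).coeff j) Q = 0 := by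
  by_contra! hcon
  let ev : MvPolynomial ℕ k →ₐ[k] k := MvPolynomial.aeval fun j => q₀.coeff j
  let _ : Algebra (MvPolynomial ℕ k) (MvPolynomial (Fin m) k) := (psi B ν).toRingHom.toAlgebra
  have hint : Algebra.IsIntegral (MvPolynomial ℕ k) (MvPolynomial (Fin m) k) := ⟨isIntegral_psi B ν hB hν⟩
  have hker : RingHom.ker (psi B ν).toRingHom ≤ RingHom.ker ev.toRingHom := by
    intro Q hQ
    by_contra hne
    obtain ⟨t, ht⟩ := hcon Q hne
    apply ht
    rw [← aeval_psi]
    have : psi B ν Q = 0 := hQ
    rw [this, map_zero]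
  have hprime : (RingHom.ker ev.toRingHom).IsPrime := RingHom.ker_isPrime _
  obtain ⟨n, -, hn, hnc⟩ := Ideal.exists_ideal_over_prime_of_isIntegral (RingHom.ker ev.toRingHom)
    (⊥ : Ideal (MvPolynomial (Fin m) k)) (by
      intro Q hQ
      exact hker hQ)
  let L := MvPolynomial (Fin m) k ⧸ n
  let φ : MvPolynomial (Fin m) k →+* L := Ideal.Quotient.mk n
  have hcoeff : ∀ j, φ ((gen B ν).coeff j) = algebraMap k L (q₀.coeff j) := by
    intro j
    have h1 : (MvPolynomial.X j - MvPolynomial.C (q₀.coeff j) : MvPolynomial ℕ k) ∈ RingHom.ker ev.toRingHom := by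
      change ev _ = 0
      rw [map_sub, sub_eq_zero]
      exact (MvPolynomial.aeval_X _ _).trans (ev.commutes _).symm
    rw [← hnc] at h1
    have h2 : psi B ν (MvPolynomial.X j - MvPolynomial.C (q₀.coeff j)) ∈ n := h1
    rw [map_sub, psi_X] at h2
    have h3 : psi B ν (MvPolynomial.C (q₀.coeff j)) = algebraMap k _ (q₀.coeff j) := (psi B ν).commutes _
    rw [h3] at h2
    exact (Ideal.Quotient.mk_eq_mk_iff_sub_mem _ _).2 h2
  have hmap : (gen B ν).map φ = q₀.map (algebraMap k L) := by
    ext j
    rw [Polynomial.coeff_map, Polynomial.coeff_map, hcoeff]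
  have hnt : Nontrivial L := Ideal.Quotient.nontrivial_iff.2 hn.ne_top
  have hdom : IsDomain L := Ideal.Quotient.isDomain n
  have hmon : (q₀.map (algebraMap k L)).Monic := by
    rw [← hmap]
    exact (monic_fam (hB.map _) ν _).map _
  have hq0 : q₀ ≠ 0 := by
    rintro rfl
    rw [Polynomial.map_zero] at hmon
    exact not_monic_zero hmon
  have hroot : ∀ i : Fin m, ∃ c : k, algebraMap k L c = φ (MvPolynomial.X i) := by
    intro i
    have h1 : (q₀.map (algebraMap k L)).eval (φ (MvPolynomial.X i)) = 0 := by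
      rw [← hmap, eval_map, eval₂_at_apply]
      have := eval_fam (B.map (algebraMap k (MvPolynomial (Fin m) k))) hν (fun i => MvPolynomial.X i) i
      rw [gen, this, map_zero]
    rw [(IsAlgClosed.splits q₀).eq_prod_roots, Polynomial.map_mul, Polynomial.map_C, eval_mul, eval_C] at h1
    have h2 : algebraMap k L q₀.leadingCoeff ≠ 0 := by
      rw [Ne, FaithfulSMul.algebraMap_eq_zero_iff]
      exact leadingCoeff_ne_zero.2 hq0
    have h3 := (mul_eq_zero.1 h1).resolve_left h2
    rw [Polynomial.map_multiset_prod, eval_multiset_prod, Multiset.prod_eq_zero_iff] at h3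
    simp only [Multiset.map_map, Multiset.mem_map, Function.comp_apply] at h3
    obtain ⟨c, -, hc⟩ := h3
    refine ⟨c, ?_⟩
    rw [Polynomial.map_sub, Polynomial.map_X, Polynomial.map_C, eval_sub, eval_X, eval_C, sub_eq_zero] at hc
    exact hc.symm
  choose t ht using hroot
  apply h t
  apply Polynomial.map_injective (algebraMap k L) (FaithfulSMul.algebraMap_injective k L)
  rw [← hmap, map_fam, gen, map_fam, Polynomial.map_map]
  congr 1
  funext i
  exact (ht i).symm

section map

variable {V : Type*}

/-- The subring of polynomial valued functions with coefficients in a subring of functions. -/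
def pfx (S : Subring (V → k)) : Subring (V → k[X]) where
  carrier := {F | ∀ j, (fun v => (F v).coeff j) ∈ S}
  mul_mem' := fun {F G} hF hG j => by
    have : (fun v => ((F * G) v).coeff j) =
        ∑ x ∈ Finset.antidiagonal j, (fun v => (F v).coeff x.1) * (fun v => (G v).coeff x.2) := by
      funext v
      rw [Pi.mul_apply, Polynomial.coeff_mul, Finset.sum_apply]
      rfl
    change (fun v => ((F * G) v).coeff j) ∈ S
    rw [this]
    exact S.sum_mem fun x _ => S.mul_mem (hF _) (hG _)
  one_mem' := fun j => by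
    by_cases hj : j = 0
    · have : (fun v => ((1 : V → k[X]) v).coeff j) = (1 : V → k) := by
        funext v
        simp [hj]
      change (fun v => ((1 : V → k[X]) v).coeff j) ∈ S
      rw [this]
      exact S.one_mem
    · have : (fun v => ((1 : V → k[X]) v).coeff j) = (0 : V → k) := by
        funext v
        simp [Polynomial.coeff_one, hj]
      change (fun v => ((1 : V → k[X]) v).coeff j) ∈ S
      rw [this]
      exact S.zero_mem
  add_mem' := fun {F G} hF hG j => by
    have : (fun v => ((F + G) v).coeff j) = (fun v => (F v).coeff j) + (fun v => (G v).coeff j) := by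
      funext v
      rw [Pi.add_apply, Polynomial.coeff_add]
      rfl
    change (fun v => ((F + G) v).coeff j) ∈ S
    rw [this]
    exact S.add_mem (hF _) (hG _)
  zero_mem' := fun j => by
    have : (fun v => ((0 : V → k[X]) v).coeff j) = (0 : V → k) := by
      funext v
      simp
    change (fun v => ((0 : V → k[X]) v).coeff j) ∈ S
    rw [this]
    exact S.zero_mem
  neg_mem' := fun {F} hF j => by
    have : (fun v => ((-F) v).coeff j) = -(fun v => (F v).coeff j) := by
      funext v
      rw [Pi.neg_apply, Polynomial.coeff_neg]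
      rfl
    change (fun v => ((-F) v).coeff j) ∈ S
    rw [this]
    exact S.neg_mem (hF _)

theorem mem_pfx {S : Subring (V → k)} {F : V → k[X]} : F ∈ pfx S ↔ ∀ j, (fun v => (F v).coeff j) ∈ S := Iff.rfl

/-- Homogenization of a polynomial function of the coefficients. -/
theorem exists_homog (S : Subring (V → k)) (hS : ∀ c : k, Function.const V c ∈ S) (a : ℕ → V → k)
    (ha : ∀ j, a j ∈ S) (c : V → k) (hc : c ∈ S) (Q : MvPolynomial ℕ k) :
    ∃ (D : ℕ) (G : V → k), G ∈ S ∧
      ∀ v, c v ≠ 0 → G v = c v ^ D * MvPolynomial.aeval (fun j => a j v / c v) Q := by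
  induction Q using MvPolynomial.induction_on with
  | C x =>
    refine ⟨0, Function.const V x, hS x, fun v _ => ?_⟩
    rw [pow_zero, one_mul]
    exact ((MvPolynomial.aeval (fun j => a j v / c v) : MvPolynomial ℕ k →ₐ[k] k).commutes x).symm
  | add p q hp hq =>
    obtain ⟨D, G, hG, h1⟩ := hp
    obtain ⟨D', G', hG', h2⟩ := hq
    refine ⟨D + D', c ^ D' * G + c ^ D * G', S.add_mem (S.mul_mem (S.pow_mem hc _) hG)
      (S.mul_mem (S.pow_mem hc _) hG'), fun v hv => ?_⟩
    rw [Pi.add_apply, Pi.mul_apply, Pi.mul_apply, Pi.pow_apply, Pi.pow_apply, h1 v hv, h2 v hv, map_add, pow_add]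
    ring
  | mul_X p j hp =>
    obtain ⟨D, G, hG, h1⟩ := hp
    refine ⟨D + 1, G * a j, S.mul_mem hG (ha j), fun v hv => ?_⟩
    rw [Pi.mul_apply, h1 v hv, map_mul, MvPolynomial.aeval_X, pow_succ]
    field_simp

/-- The projective version of `exists_sep` for polynomial maps. -/
theorem exists_sep_map [IsAlgClosed k] (S : Subring (V → k)) (hS : ∀ c : k, Function.const V c ∈ S)
    {F : V → k[X]} (hF : F ∈ pfx S) (M : ℕ) {B : k[X]} (hB : B.Monic) {m : ℕ} {ν : Fin m → ℕ}
    (hν : ∀ i, 0 < ν i) (v₀ : V) (h0 : (F v₀).coeff M ≠ 0)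
    (h : ∀ t : Fin m → k, F v₀ ≠ C ((F v₀).coeff M) * fam B ν t) :
    ∃ G ∈ S, G v₀ ≠ 0 ∧ ∀ v, ((F v).coeff M = 0 ∨ ∃ t : Fin m → k, F v = C ((F v).coeff M) * fam B ν t) →
      G v = 0 := by
  obtain ⟨Q, hQ, hQ'⟩ := exists_sep hB hν (C ((F v₀).coeff M)⁻¹ * F v₀) (fun t ht => h t (by
    rw [← ht, ← mul_assoc, ← C_mul, mul_inv_cancel₀ h0, C_1, one_mul]))
  obtain ⟨D, G, hG, h1⟩ := exists_homog S hS (fun j v => (F v).coeff j) hF (fun v => (F v).coeff M) (hF M) Q
  refine ⟨(fun v => (F v).coeff M) * G, S.mul_mem (hF M) hG, ?_, ?_⟩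
  · rw [Pi.mul_apply, h1 v₀ h0]
    refine mul_ne_zero h0 (mul_ne_zero (pow_ne_zero _ h0) ?_)
    convert hQ using 3
    funext j
    rw [coeff_C_mul, div_eq_inv_mul]
  · rintro v (hv | ⟨t, ht⟩)
    · rw [Pi.mul_apply, hv, zero_mul]
    · rw [Pi.mul_apply]
      by_cases hc : (F v).coeff M = 0
      · rw [hc, zero_mul]
      · rw [h1 v hc]
        have h2 : (fun j => (F v).coeff j / (F v).coeff M) = fun j => (fam B ν t).coeff j := by
          funext j
          conv_lhs =>
            enter [1]
            rw [ht, coeff_C_mul]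
          rw [mul_div_cancel_left₀ _ hc]
        rw [h2, hQ' t, mul_zero, mul_zero]

end map

/-- Polynomial functions on a vector space. -/
def pf (k V : Type*) [Field k] [AddCommGroup V] [Module k V] : Subring (V → k) :=
  Subring.closure (Set.range (fun φ : V →ₗ[k] k => (φ : V → k)) ∪ Set.range (fun c : k => Function.const V c))

theorem const_mem_pf {V : Type*} [AddCommGroup V] [Module k V] (c : k) : Function.const V c ∈ pf k V :=
  Subring.subset_closure (Or.inr ⟨c, rfl⟩)

theorem lin_mem_pf {V : Type*} [AddCommGroup V] [Module k V] (φ : V →ₗ[k] k) : (φ : V → k) ∈ pf k V :=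
  Subring.subset_closure (Or.inl ⟨φ, rfl⟩)

end K709.PolyClosed
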