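import Groth.Agent.Curves.K318.GenVal
import Groth.Agent.LocSym.K717.Recip
import Groth.Agent.CycB.ModStalk
import Groth.Agent.CycB.OrdFrac
import Groth.Prelude.Def_C1

/-!
# The divisors of the global sections of an invertible module on a smooth proper curve

* `zeroSectionFun_eq`: the order of vanishing in terms of a local generator;
* `exists_sectDiv`: a linear map from the global sections to the function field and a divisor `D₀` such that
  the order of vanishing of `s` at `x` is `ord_x (f s) + D₀ x`.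
-/

set_option autoImplicit false
universe u

open CategoryTheory CategoryTheory.Limits AlgebraicGeometry Opposite TopologicalSpace

open Groth.Agent Groth.Agent.Fdesc.LocGen

noncomputable section

namespace K709.SectDiv

variable {X : Scheme.{u}}

theorem germ_coeff {L : X.Modules} {U : X.Opens} {e : Γ(L, U)} {x : X} (hx : x ∈ U) (s : Γ(L, ⊤)) (a : Γ(X, U))
    (ha : res L le_top s = a • e) :
    L.presheaf.germ ⊤ x trivial s = X.presheaf.germ U x hx a • L.presheaf.germ U x hx e := by
  rw [← CycB.ModStalk.germ_smul, ← ha]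
  exact (L.presheaf.germ_res_apply (homOfLE le_top) x hx s).symm

theorem isGen_germ {L : X.Modules} {U : X.Opens} {e : Γ(L, U)} (he : IsGen e) {x : X} (hx : x ∈ U) :
    CycB.ModStalk.IsGen L x (L.presheaf.germ U x hx e) :=
  CycB.ModStalk.IsGenOn.isGen he x hx

/-- The order of vanishing in terms of a local generator. -/
theorem zeroSectionFun_eq {L : X.Modules} {U : X.Opens} {e : Γ(L, U)} (he : IsGen e) {x : X} (hx : x ∈ U)
    (s : Γ(L, ⊤)) (a : Γ(X, U)) (ha : res L le_top s = a • e) :
    Cyc.zeroSectionFun (fun _ => (0 : ℤ)) 0 L s x =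
      ((Module.length (X.presheaf.stalk x)
        (↥(X.presheaf.stalk x) ⧸ Ideal.span {X.presheaf.germ U x hx a})).toNat : ℤ) := by
  have hg := isGen_germ he hx
  have h1 : ∃ t : L.presheaf.stalk x, Submodule.span (X.presheaf.stalk x) {t} = ⊤ := ⟨_, hg.span_eq_top⟩
  have ht := hg.of_span_eq_top (Classical.choose_spec h1)
  obtain ⟨u, hu⟩ := ht.exists_unit_smul hg
  have h2 : ∃ f : X.presheaf.stalk x, (L.presheaf.germ ⊤ x trivial) s = f • Classical.choose h1 := by
    refine ⟨X.presheaf.germ U x hx a * u, ?_⟩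
    rw [germ_coeff hx s a ha, hu, mul_smul]
    rfl
  simp only [Cyc.zeroSectionFun]
  rw [if_pos trivial, dif_pos h1, dif_pos h2]
  have h3 : Classical.choose h2 = X.presheaf.germ U x hx a * u := by
    apply ht.1
    dsimp only
    rw [← Classical.choose_spec h2, germ_coeff hx s a ha, hu, mul_smul]
    rfl
  rw [h3, Ideal.span_singleton_mul_right_unit u.isUnit]

/-- A nonzero section does not vanish at the generic point. -/
theorem zeroSectionFun_generic [IsIntegral X] {L : X.Modules} (hL : PicF.IsInvertible L) {s : Γ(L, ⊤)} (hs : s ≠ 0) :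
    Cyc.zeroSectionFun (fun _ => (0 : ℤ)) 0 L s (genericPoint X) = 0 := by
  obtain ⟨U, e, hx, he⟩ := (isInvertible_iff L).1 hL (genericPoint X)
  obtain ⟨a, ha⟩ := he.exists_eq (res L le_top s)
  have : Nonempty U := ⟨⟨_, hx⟩⟩
  rw [zeroSectionFun_eq he hx s a ha]
  have ha0 : a ≠ 0 := by
    rintro rfl
    rw [zero_smul] at ha
    apply hs
    apply K318.GenVal.eq_zero_of_gval he hL
    rw [← K318.GenVal.gval_res he (le_top (a := U)), ha, K318.GenVal.gval_zero]
  have h1 : X.presheaf.germ U (genericPoint X) hx a ≠ 0 := by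
    intro h0
    exact ha0 (K318.GenVal.gg_eq_zero_iff.1 h0)
  have h2 : IsUnit (show X.functionField from X.presheaf.germ U (genericPoint X) hx a) := Ne.isUnit h1
  have h3 : Ideal.span {X.presheaf.germ U (genericPoint X) hx a} = ⊤ := Ideal.span_singleton_eq_top.2 h2
  rw [h3]
  have : Subsingleton (X.presheaf.stalk (genericPoint X) ⧸ (⊤ : Ideal (X.presheaf.stalk (genericPoint X)))) :=
    Ideal.Quotient.subsingleton_iff.2 rfl
  rw [Module.length_eq_zero]
  rfl

open K318.GenVal K717.Crv K717.Basic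

variable {k : Type u} [Field k] [IsAlgClosed k] [IsIntegral X] {c : X ⟶ Spec (CommRingCat.of k)} [IsProper c]
  [Smooth c] (hdim : topologicalKrullDim X = 1)

include hdim in
/-- The order of vanishing in terms of the value in the function field. -/
theorem zeroSectionFun_pt {L : X.Modules} (hL : PicF.IsInvertible L) {U₀ : X.Opens} [Nonempty U₀] {e₀ : Γ(L, U₀)}
    (he₀ : IsGen e₀) {U : X.Opens} [Nonempty U] {e : Γ(L, U)} (he : IsGen e) (x : LocSym.Pt c) (hx : x.pt ∈ U)
    {s : Γ(L, ⊤)} (hs : s ≠ 0) :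
    Cyc.zeroSectionFun (fun _ => (0 : ℤ)) 0 L s x.pt = x.ord (gval he₀ s) - x.ord (gval he₀ e) := by
  obtain ⟨a, ha⟩ := he.exists_eq (res L le_top s)
  have h1 : gval he₀ s = gg U a * gval he₀ e := by
    rw [← gval_smul, ← ha, gval_res]
  have hg0 : gval he₀ e ≠ 0 := gval_gen_ne_zero he₀ he
  have hs0 : gval he₀ s ≠ 0 := fun h => hs (eq_zero_of_gval he₀ hL s h)
  have ha0 : gg U a ≠ 0 := by
    intro h0
    rw [h0, zero_mul] at h1
    exact hs0 h1
  have hdvr := isDVR c hdim x
  have h2 : gg U a = algebraMap (X.presheaf.stalk x.pt) X.functionField (X.presheaf.germ U x.pt hx a) :=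
    (X.algebraMap_germ_eq_germToFunctionField hx a).symm
  rw [h1, ord_mul hdim x ha0 hg0, add_sub_cancel_right, zeroSectionFun_eq he hx s a ha, h2]
  have hne : X.presheaf.germ U x.pt hx a ≠ 0 := by
    intro h0
    apply ha0
    rw [h2, h0, map_zero]
  exact (CycB.OrdFrac.ordFrac_algebraMap' (X.presheaf.stalk x.pt) X.functionField hne).symm

include hdim in
/-- The divisors of global sections. -/
theorem exists_sectDiv {L : X.Modules} (hL : PicF.IsInvertible L) :
    ∃ (f : Γ(L, ⊤) →+ X.functionField) (D₀ : LocSym.Pt c →₀ ℤ), Function.Injective f ∧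
      (∀ (a : Γ(X, ⊤)) (s : Γ(L, ⊤)), f (a • s) = X.germToFunctionField ⊤ a * f s) ∧
      ∀ s : Γ(L, ⊤), s ≠ 0 → ∀ x : LocSym.Pt c,
        Cyc.zeroSectionFun (fun _ => (0 : ℤ)) 0 L s x.pt = x.ord (f s) + D₀ x := by
  classical
  have hcpt : CompactSpace X := QuasiCompact.compactSpace_of_compactSpace c
  choose U e hU he using (isInvertible_iff L).1 hL
  have hne : ∀ y, Nonempty (U y) := fun y => ⟨⟨y, hU y⟩⟩
  obtain ⟨t, ht⟩ := isCompact_univ.elim_finite_subcover (fun y => ((U y : X.Opens) : Set X))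
    (fun y => (U y).isOpen) (fun y _ => Set.mem_iUnion.2 ⟨y, hU y⟩)
  have hsel : ∀ x : LocSym.Pt c, ∃ y ∈ t, x.pt ∈ U y := by
    intro x
    obtain ⟨y, hy⟩ := Set.mem_iUnion.1 (ht (Set.mem_univ x.pt))
    obtain ⟨hyt, hy⟩ := Set.mem_iUnion.1 hy
    exact ⟨y, hyt, hy⟩
  choose y hyt hy using hsel
  let η := genericPoint X
  let f : Γ(L, ⊤) →+ X.functionField :=
    { toFun := fun s => gval (he η) s
      map_zero' := gval_zero (he η)
      map_add' := fun s t => gval_add (he η) s t }
  have hfin : {x : LocSym.Pt c | -x.ord (gval (he η) (e (y x))) ≠ 0}.Finite := by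
    refine (Set.Finite.biUnion t.finite_toSet fun z _ => finite_ord_ne_zero hdim (gval (he η) (e z))).subset ?_
    intro x hx
    refine Set.mem_biUnion (hyt x) ?_
    exact fun h => hx (by rw [h, neg_zero])
  refine ⟨f, Finsupp.ofSupportFinite (fun x => -x.ord (gval (he η) (e (y x)))) hfin, ?_, ?_, ?_⟩
  · intro s s' h
    exact gval_injective (he η) hL h
  · intro a s
    exact gval_smul (he η) a s
  · intro s hs x
    rw [zeroSectionFun_pt hdim hL (he η) (he (y x)) x (hy x) hs, sub_eq_add_neg]
    rfl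

end K709.SectDiv
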