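import Mathlib.RingTheory.Unramified.Field
import Mathlib.RingTheory.Jacobson.Ring
import Mathlib.RingTheory.Nakayama
import Mathlib.FieldTheory.IsAlgClosed.Basic

/-!
# A submodule of a finite unramified algebra which separates points is everything

`A` of finite type over an algebraically closed field, `A → B` finite and unramified with at most two maximal ideals
over every maximal ideal of `A`.
-/

set_option autoImplicit false
universe u

namespace K709.SepAlg

/-- A submodule `N` of a finite module with `N + m B = B` for all maximal `m` is everything. -/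
theorem eq_top_of_forall_maximal {A M : Type*} [CommRing A] [AddCommGroup M] [Module A M] [Module.Finite A M]
    (N : Submodule A M) (h : ∀ m : Ideal A, m.IsMaximal → N ⊔ m • (⊤ : Submodule A M) = ⊤) : N = ⊤ := by
  have hfin : Module.Finite A (M ⧸ N) := inferInstance
  have key : (⊤ : Submodule A (M ⧸ N)) = ⊥ := by
    by_contra hne
    have hI : Module.annihilator A (M ⧸ N) ≠ ⊤ := by
      intro h0
      apply hne
      rw [eq_bot_iff]
      intro z _
      have h1 : (1 : A) ∈ Module.annihilator A (M ⧸ N) := by rw [h0]; trivial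
      have h2 := (Module.mem_annihilator.mp h1) z
      rw [one_smul] at h2
      rw [h2]; exact zero_mem _
    obtain ⟨m, hm, hle⟩ := Ideal.exists_le_maximal _ hI
    have h3 : (⊤ : Submodule A (M ⧸ N)) ≤ m • ⊤ := by
      intro z _
      obtain ⟨z, rfl⟩ := N.mkQ_surjective z
      have h4 : z ∈ N ⊔ m • (⊤ : Submodule A M) := by rw [h m hm]; trivial
      obtain ⟨n, hn, w, hw, rfl⟩ := Submodule.mem_sup.mp h4
      have h5 : N.mkQ w ∈ (m • (⊤ : Submodule A M)).map N.mkQ := ⟨w, hw, rfl⟩
      rw [Submodule.map_smul'', Submodule.map_top, Submodule.range_mkQ] at h5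
      rw [map_add]
      have h6 : N.mkQ n = 0 := by rw [Submodule.mkQ_apply, Submodule.Quotient.mk_eq_zero]; exact hn
      rw [h6, zero_add]
      exact h5
    obtain ⟨r, hr, hr'⟩ := Submodule.exists_sub_one_mem_and_smul_eq_zero_of_fg_of_le_smul m ⊤
      (Module.Finite.fg_top) h3
    have h7 : r ∈ Module.annihilator A (M ⧸ N) := Module.mem_annihilator.mpr fun z => hr' z trivial
    apply hm.ne_top
    rw [Ideal.eq_top_iff_one]
    have h8 := sub_mem (hle h7) hr
    rwa [sub_sub_cancel] at h8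
  rw [eq_top_iff]
  intro z _
  have h9 : N.mkQ z ∈ (⊤ : Submodule A (M ⧸ N)) := trivial
  rw [key, Submodule.mem_bot, Submodule.mkQ_apply, Submodule.Quotient.mk_eq_zero] at h9
  exact h9

/-- Nullstellensatz. -/
theorem exists_sub_mem {k B : Type*} [Field k] [IsAlgClosed k] [CommRing B] [Algebra k B]
    [Algebra.FiniteType k B] (n : Ideal B) [hn : n.IsMaximal] (b : B) : ∃ c : k, b - algebraMap k B c ∈ n := by
  let _ : Field (B ⧸ n) := Ideal.Quotient.field n
  have h1 : Algebra.FiniteType k (B ⧸ n) := inferInstance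
  have h2 : Module.Finite k (B ⧸ n) := finite_of_finite_type_of_isJacobsonRing k (B ⧸ n)
  obtain ⟨c, hc⟩ := (IsAlgClosed.algebraMap_bijective_of_isIntegral (k := k) (K := B ⧸ n)).2 (Ideal.Quotient.mk n b)
  refine ⟨c, ?_⟩
  rw [← Ideal.Quotient.eq, ← hc]
  rfl

variable {A B : Type u} [CommRing A] [CommRing B] [Algebra A B] [Module.Finite A B]

/-- In a finite unramified algebra the extension of a maximal ideal is the intersection of the maximal ideals above. -/
theorem mem_map_of_forall [Algebra.FormallyUnramified A B] (m : Ideal A) [hm : m.IsMaximal] (b : B)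
    (h : ∀ n : Ideal B, n.IsMaximal → m ≤ n.comap (algebraMap A B) → b ∈ n) : b ∈ m.map (algebraMap A B) := by
  let _ : Field (A ⧸ m) := Ideal.Quotient.field m
  let I := m.map (algebraMap A B)
  have h1 : Algebra.FormallyUnramified (A ⧸ m) (B ⧸ I) := by
    have : Algebra.FormallyUnramified A (B ⧸ I) :=
      Algebra.FormallyUnramified.comp A B (B ⧸ I)
    exact Algebra.FormallyUnramified.of_restrictScalars A (A ⧸ m) (B ⧸ I)
  have h2 : Module.Finite A (B ⧸ I) := Module.Finite.trans B _
  have h3 : Module.Finite (A ⧸ m) (B ⧸ I) := Module.Finite.of_restrictScalars_finite A (A ⧸ m) (B ⧸ I)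
  have h4 : IsReduced (B ⧸ I) := Algebra.FormallyUnramified.isReduced_of_field (A ⧸ m) (B ⧸ I)
  have h5 : IsArtinianRing (B ⧸ I) := IsArtinianRing.of_finite (A ⧸ m) (B ⧸ I)
  rw [← Ideal.Quotient.eq_zero_iff_mem]
  have h6 : Ideal.Quotient.mk I b ∈ nilradical (B ⧸ I) := by
    rw [nilradical_eq_sInf, Ideal.mem_sInf]
    intro p hp
    have hp' : p.IsPrime := hp
    have hpm : p.IsMaximal := IsArtinianRing.isMaximal_of_isPrime p
    have h7 : (p.comap (Ideal.Quotient.mk I)).IsMaximal :=
      Ideal.comap_isMaximal_of_surjective _ Ideal.Quotient.mk_surjective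
    exact h _ h7 (by
      intro a ha
      rw [Ideal.mem_comap, Ideal.mem_comap, Ideal.Quotient.eq_zero_iff_mem.mpr (Ideal.mem_map_of_mem _ ha)]
      exact zero_mem _)
  rw [nilradical_eq_zero] at h6
  exact h6

/-- **Separation criterion.** -/
theorem eq_top_of_sep (k : Type u) [Field k] [IsAlgClosed k] [Algebra k A] [Algebra k B]
    [IsScalarTower k A B] [Algebra.FiniteType k A] [Algebra.FormallyUnramified A B] (N : Submodule A B) (h1 : (1 : B) ∈ N)
    (h2 : ∀ n₁ n₂ n₃ : Ideal B, n₁.IsMaximal → n₂.IsMaximal → n₃.IsMaximal →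
      n₁.comap (algebraMap A B) = n₂.comap (algebraMap A B) → n₂.comap (algebraMap A B) = n₃.comap (algebraMap A B) →
      n₁ = n₂ ∨ n₁ = n₃ ∨ n₂ = n₃)
    (h3 : ∀ n₁ n₂ : Ideal B, n₁.IsMaximal → n₂.IsMaximal → n₁.comap (algebraMap A B) = n₂.comap (algebraMap A B) →
      n₁ ≠ n₂ → ∃ b ∈ N, b ∈ n₁ ∧ b ∉ n₂) : N = ⊤ := by
  have hkB : Algebra.FiniteType k B := Algebra.FiniteType.trans (S := A) inferInstance inferInstance
  have hint : Algebra.IsIntegral A B := inferInstance
  refine eq_top_of_forall_maximal N fun m hm => ?_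
  rw [eq_top_iff]
  intro b _
  have hcm : ∀ n : Ideal B, n.IsMaximal → m ≤ n.comap (algebraMap A B) → m = n.comap (algebraMap A B) := fun n hn hle =>
    hm.eq_of_le (Ideal.IsPrime.ne_top inferInstance) hle
  have hmem : ∀ z : B, (∀ n : Ideal B, n.IsMaximal → m ≤ n.comap (algebraMap A B) → z ∈ n) →
      z ∈ m • (⊤ : Submodule A B) := by
    intro z hz
    have h4 := mem_map_of_forall m z hz
    have h5 : (m • (⊤ : Submodule A B)) = (m.map (algebraMap A B)).restrictScalars A := by
      rw [Ideal.smul_top_eq_map]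
    rw [h5]
    exact h4
  have hk : ∀ c : k, algebraMap k B c ∈ N := by
    intro c
    rw [IsScalarTower.algebraMap_apply k A B, Algebra.algebraMap_eq_smul_one]
    exact N.smul_mem _ h1
  have hkm : ∀ (c : k) (z : B), z ∈ N → algebraMap k B c * z ∈ N := by
    intro c z hz
    rw [IsScalarTower.algebraMap_apply k A B, ← Algebra.smul_def]
    exact N.smul_mem _ hz
  by_cases hS : ∃ n₁ : Ideal B, n₁.IsMaximal ∧ m ≤ n₁.comap (algebraMap A B)
  · obtain ⟨n₁, hn₁, hm₁⟩ := hS
    obtain ⟨c₁, hc₁⟩ := exists_sub_mem (k := k) n₁ b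
    by_cases hS2 : ∃ n₂ : Ideal B, n₂.IsMaximal ∧ m ≤ n₂.comap (algebraMap A B) ∧ n₂ ≠ n₁
    · obtain ⟨n₂, hn₂, hm₂, hne⟩ := hS2
      obtain ⟨b₁, hb₁N, hb₁, hb₂⟩ := h3 n₁ n₂ hn₁ hn₂ ((hcm n₁ hn₁ hm₁).symm.trans (hcm n₂ hn₂ hm₂)) hne.symm
      obtain ⟨d, hd⟩ := exists_sub_mem (k := k) n₂ b₁
      obtain ⟨c₂, hc₂⟩ := exists_sub_mem (k := k) n₂ (b - algebraMap k B c₁)
      have hd0 : d ≠ 0 := by
        rintro rfl
        rw [map_zero, sub_zero] at hd
        exact hb₂ hd
      have h6 : b - algebraMap k B c₁ - algebraMap k B (c₂ * d⁻¹) * b₁ ∈ m • (⊤ : Submodule A B) := by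
        refine hmem _ fun n hn hmn => ?_
        have h7 := h2 n n₁ n₂ hn hn₁ hn₂ ((hcm n hn hmn).symm.trans (hcm n₁ hn₁ hm₁))
          ((hcm n₁ hn₁ hm₁).symm.trans (hcm n₂ hn₂ hm₂))
        rcases h7 with h7 | h7 | h7
        · subst h7
          exact sub_mem hc₁ (Ideal.mul_mem_left _ _ hb₁)
        · subst h7
          have h8 : b - algebraMap k B c₁ - algebraMap k B (c₂ * d⁻¹) * b₁ =
              (b - algebraMap k B c₁ - algebraMap k B c₂) -
                algebraMap k B (c₂ * d⁻¹) * (b₁ - algebraMap k B d) := by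
            have h9 : algebraMap k B (c₂ * d⁻¹) * algebraMap k B d = algebraMap k B c₂ := by
              rw [← map_mul, mul_assoc, inv_mul_cancel₀ hd0, mul_one]
            rw [mul_sub, h9]; ring
          rw [h8]
          exact sub_mem hc₂ (Ideal.mul_mem_left _ _ hd)
        · exact absurd h7.symm hne
      rw [Submodule.mem_sup]
      refine ⟨algebraMap k B c₁ + algebraMap k B (c₂ * d⁻¹) * b₁, add_mem (hk _) (hkm _ _ hb₁N), _, h6, by ring⟩
    · push Not at hS2
      have h6 : b - algebraMap k B c₁ ∈ m • (⊤ : Submodule A B) := by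
        refine hmem _ fun n hn hmn => ?_
        rw [hS2 n hn hmn]
        exact hc₁
      rw [Submodule.mem_sup]
      exact ⟨_, hk c₁, _, h6, by ring⟩
  · push Not at hS
    exact Submodule.mem_sup_right (hmem b fun n hn hmn => absurd hmn (hS n hn))

end K709.SepAlg
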