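import Groth.Agent.Curves.K709.AbsStrat
import Groth.Agent.Curves.K709.SectDiv
import Groth.Agent.CurvesA.CurveDvr

/-!
# Strata of the global sections of an invertible module on a curve

`exists_family`: the global sections with exactly `n` zeros of the given orders form a locally closed set.
-/

set_option autoImplicit false
set_option linter.style.haveILetI false
universe u

open CategoryTheory CategoryTheory.Limits AlgebraicGeometry Opposite TopologicalSpace

open Groth.Agent Groth.Agent.Fdesc.LocGen Groth.Agent.Models.FFRR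

noncomputable section

namespace K709.StratFam

open K717.Crv K717.Basic K709.PolyClosed K709.SectDiv

section change

variable {k : Type*} [Field k] {R : Type*} [CommRing R] (ι : k →+* R) (hι : Function.Surjective ι)
  {V : Type*} [AddCommGroup V] [Module R V]

/-- The polynomial functions on a module. -/
def pr (R V : Type*) [CommRing R] [AddCommGroup V] [Module R V] : Subring (V → R) :=
  Subring.closure (Set.range (fun φ : V →ₗ[R] R => (φ : V → R)) ∪ Set.range (fun c : R => Function.const V c))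

include hι in
theorem comp_mem (G : V → k) (hG : letI := Module.compHom V ι; G ∈ pf k V) : (fun v => ι (G v)) ∈ pr R V := by
  letI := Module.compHom V ι
  have h1 : pf k V ≤ (pr R V).comap (RingHom.pi fun v : V => ι.comp (Pi.evalRingHom (fun _ : V => k) v)) := by
    refine Subring.closure_le.2 ?_
    rintro _ (⟨φ, rfl⟩ | ⟨c, rfl⟩)
    · refine Subring.subset_closure (Or.inl ⟨{ toFun := fun v => ι (φ v)
                                               map_add' := fun v w => by rw [map_add, map_add]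
                                               map_smul' := fun r v => ?_ }, rfl⟩)
      obtain ⟨a, rfl⟩ := hι r
      have h2 : φ (ι a • v) = a * φ v := φ.map_smul a v
      rw [h2, map_mul]
      rfl
    · exact Subring.subset_closure (Or.inr ⟨ι c, rfl⟩)
  exact h1 hG

end change

section comb

variable {P : Type*}

theorem sum_single_apply {m : ℕ} [DecidableEq P] (x : Fin m → P) (ν : Fin m → ℕ) (p : P) :
    (∑ i, Finsupp.single (x i) (ν i : ℤ)) p = ∑ i, if x i = p then (ν i : ℤ) else 0 := by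
  rw [Finsupp.finsetSum_apply]
  exact Finset.sum_congr rfl fun i _ => by rw [Finsupp.single_apply]

theorem sum_single_of_inj {m : ℕ} {x : Fin m → P} (hx : Function.Injective x) (ν : Fin m → ℕ) (j : Fin m) :
    (∑ i, Finsupp.single (x i) (ν i : ℤ)) (x j) = ν j := by
  classical
  rw [sum_single_apply, Finset.sum_eq_single j (fun i _ hij => if_neg fun h => hij (hx h))
    (fun h => absurd (Finset.mem_univ j) h), if_pos rfl]

theorem sum_single_of_notMem {m : ℕ} {x : Fin m → P} (ν : Fin m → ℕ) {p : P} (hp : p ∉ Set.range x) :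
    (∑ i, Finsupp.single (x i) (ν i : ℤ)) p = 0 := by
  classical
  rw [sum_single_apply]
  exact Finset.sum_eq_zero fun i _ => if_neg fun h => hp ⟨i, h⟩

theorem pos_of_mem {m : ℕ} {x : Fin m → P} {ν : Fin m → ℕ} (hν : ∀ i, 0 < ν i) (j : Fin m) :
    0 < (∑ i, Finsupp.single (x i) (ν i : ℤ)) (x j) := by
  classical
  rw [sum_single_apply]
  refine Finset.sum_pos' (fun i _ => by split_ifs <;> positivity) ⟨j, Finset.mem_univ j, ?_⟩
  rw [if_pos rfl]
  exact_mod_cast hν j

/-- The multiplicity sequence of a divisor supported in few points. -/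
theorem exists_short {n : ℕ} {x : Fin n → P} {μ : Fin n → ℕ} (hμ : ∀ i, 0 < μ i) (hx : ¬ Function.Injective x) :
    ∃ m < n, ∃ (ν : Fin m → ℕ) (y : Fin m → P), (∀ i, 0 < ν i) ∧ ∑ i, ν i = ∑ i, μ i ∧
      ∑ i, Finsupp.single (x i) (μ i : ℤ) = ∑ i, Finsupp.single (y i) (ν i : ℤ) := by
  classical
  let T : Finset P := Finset.univ.image x
  have hT : T.card < n := by
    have h1 : T.card ≤ n := Finset.card_image_le.trans_eq (by simp)
    refine lt_of_le_of_ne h1 fun h => hx ?_
    have h2 : T.card = (Finset.univ : Finset (Fin n)).card := by rw [h]; simp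
    have h3 := Finset.card_image_iff.1 h2
    intro a b hab
    exact h3 (Finset.mem_coe.2 (Finset.mem_univ a)) (Finset.mem_coe.2 (Finset.mem_univ b)) hab
  let y : Fin T.card → P := fun i => (T.equivFin.symm i).1
  have hy : Function.Injective y := fun a b h => T.equivFin.symm.injective (Subtype.ext h)
  let ν : Fin T.card → ℕ := fun i => ∑ j, if x j = y i then μ j else 0
  have hxT : ∀ j, ∃ i, x j = y i := by
    intro j
    refine ⟨T.equivFin ⟨x j, Finset.mem_image_of_mem x (Finset.mem_univ j)⟩, ?_⟩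
    simp only [y, Equiv.symm_apply_apply]
  have hν : ∀ i, 0 < ν i := by
    intro i
    obtain ⟨j, -, hj⟩ := Finset.mem_image.1 (T.equivFin.symm i).2
    refine Finset.sum_pos' (fun _ _ => Nat.zero_le _) ⟨j, Finset.mem_univ j, ?_⟩
    rw [if_pos hj]
    exact hμ j
  refine ⟨T.card, hT, ν, y, hν, ?_, ?_⟩
  · simp only [ν]
    rw [Finset.sum_comm]
    refine Finset.sum_congr rfl fun j _ => ?_
    obtain ⟨i, hi⟩ := hxT j
    rw [Finset.sum_eq_single i (fun l _ hl => if_neg fun h => hl (hy (h.symm.trans hi)))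
      (fun h => absurd (Finset.mem_univ i) h), if_pos hi]
  · ext p
    by_cases hp : p ∈ Set.range y
    · obtain ⟨i, rfl⟩ := hp
      rw [sum_single_of_inj hy, sum_single_apply]
      simp only [ν]
      push_cast
      rfl
    · rw [sum_single_of_notMem _ hp, sum_single_of_notMem]
      rintro ⟨j, rfl⟩
      obtain ⟨i, hi⟩ := hxT j
      exact hp ⟨i, hi.symm⟩

theorem le_of_eq_sum {n m : ℕ} {x : Fin n → P} (hx : Function.Injective x) {μ : Fin n → ℕ} (hμ : ∀ i, 0 < μ i)
    {y : Fin m → P} {ν : Fin m → ℕ}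
    (h : ∑ i, Finsupp.single (x i) (μ i : ℤ) = ∑ i, Finsupp.single (y i) (ν i : ℤ)) : n ≤ m := by
  classical
  have h1 : ∀ i, ∃ j, y j = x i := by
    intro i
    by_contra hcon
    have h2 := pos_of_mem (x := x) hμ i
    rw [h, sum_single_of_notMem ν (p := x i) (by rintro ⟨j, hj⟩; exact hcon ⟨j, hj⟩)] at h2
    exact lt_irrefl _ h2
  choose g hg using h1
  have hgi : Function.Injective g := fun a b hab => hx (by rw [← hg a, ← hg b, hab])
  simpa using Fintype.card_le_of_injective g hgi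

end comb

variable {X : Scheme.{u}} {k : Type u} [Field k] [IsAlgClosed k] [IsIntegral X] {c : X ⟶ Spec (CommRingCat.of k)}
  [IsProper c] [Smooth c] (hdim : topologicalKrullDim X = 1)

/-- The structure map of the global functions. -/
def str (c : X ⟶ Spec (CommRingCat.of k)) : k →+* Γ(X, ⊤) :=
  c.appTop.hom.comp (Scheme.ΓSpecIso (CommRingCat.of k)).inv.hom

omit [IsAlgClosed k] [IsProper c] [Smooth c] in
theorem germ_str (a : k) : X.germToFunctionField ⊤ (str c a) = LocSym.constFun c a := rfl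

include hdim in
theorem str_surjective : Function.Surjective (str c) := by
  intro a
  have h1 : ∀ x : LocSym.Pt c, val c hdim x (X.germToFunctionField ⊤ a) ≤ 1 := by
    intro x
    refine (crv_v_le_one c hdim x _).2 ⟨X.presheaf.germ ⊤ x.pt trivial a, ?_⟩
    exact X.algebraMap_germ_eq_germToFunctionField (U := ⊤) (x := x.pt) trivial a
  obtain ⟨b, hb⟩ := exists_const_of_forall hdim _ h1
  refine ⟨b, X.germToFunctionField_injective ⊤ ?_⟩
  rw [germ_str, hb]

include hdim in
/-- The strata of the global sections of an invertible module. -/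
theorem exists_family (c : X ⟶ Spec (CommRingCat.of k)) [IsProper c] [Smooth c] {L : X.Modules} (hL : PicF.IsInvertible L) {n : ℕ} (μ : Fin n → ℕ) (hμ : ∀ i, 0 < μ i) :
    ∃ F G : Set (Γ(L, ⊤) → Γ(X, ⊤)), F ∪ G ⊆ (pr Γ(X, ⊤) Γ(L, ⊤) : Set (Γ(L, ⊤) → Γ(X, ⊤))) ∧
      {ω : Γ(L, ⊤) | ω ≠ 0 ∧ ∃ e : Fin n → X, Function.Injective e ∧
        (∀ i, Cyc.zeroSectionFun (fun _ => (0 : ℤ)) 0 L ω (e i) = (μ i : ℤ)) ∧
        ∀ x : X, x ∉ Set.range e → Cyc.zeroSectionFun (fun _ => (0 : ℤ)) 0 L ω x = 0} =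
      {ω | (∀ f ∈ F, f ω = 0) ∧ ∃ g ∈ G, g ω ≠ 0} := by
  classical
  letI := algK c
  letI : Module k Γ(L, ⊤) := Module.compHom Γ(L, ⊤) (str c)
  have hC := K717.Recip.nice (c := c) hdim
  have hsurj := str_surjective (c := c) hdim
  obtain ⟨f, D₀, hf, hfs, hD⟩ := exists_sectDiv (c := c) hdim hL
  let f' : Γ(L, ⊤) →ₗ[k] X.functionField :=
    { f with
      map_smul' := fun a s => by
        change f (str c a • s) = a • f s
        rw [hfs, Algebra.smul_def]
        rfl }
  have hf' : Function.Injective f' := hf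
  let o : Γ(L, ⊤) → LocSym.Pt c →₀ ℤ := fun s => (crv c hdim).div (f' s) + D₀
  have ho : ∀ s : Γ(L, ⊤), s ≠ 0 → ∀ x : LocSym.Pt c,
      Cyc.zeroSectionFun (fun _ => (0 : ℤ)) 0 L s x.pt = o s x := by
    intro s hs x
    rw [hD s hs x, ord_eq_div c hdim]
    rfl
  have hpos : ∀ s : Γ(L, ⊤), s ≠ 0 → 0 ≤ (crv c hdim).div (f' s) + D₀ := by
    intro s hs x
    change 0 ≤ o s x
    rw [← ho s hs x]
    unfold Cyc.zeroSectionFun
    split_ifs <;> positivity
  let Cl : ∀ {m : ℕ}, (Fin m → ℕ) → Set Γ(L, ⊤) := fun {m} ν =>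
    {v | v = 0 ∨ ∃ x : Fin m → LocSym.Pt c, o v = ∑ i, Finsupp.single (x i) (ν i : ℤ)}
  have hinj : Function.Injective (str c) := (str c).injective
  have key : ∀ {m : ℕ} (ν : Fin m → ℕ), (∀ i, 0 < ν i) → ∀ v₀ ∉ Cl ν, ∃ g ∈ pr Γ(X, ⊤) Γ(L, ⊤), g v₀ ≠ 0 ∧
      ∀ v ∈ Cl ν, g v = 0 := by
    intro m ν hν v₀ hv₀
    have h0 : v₀ ≠ 0 := fun h => hv₀ (Or.inl h)
    obtain ⟨G, hG, hG1, hG2⟩ := AbsStrat.exists_poly hC D₀ f' hf' hpos hν v₀ h0
      (fun x hx => hv₀ (Or.inr ⟨x, hx⟩))
    refine ⟨fun v => str c (G v), comp_mem (str c) hsurj G hG, ?_, fun v hv => ?_⟩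
    · intro h
      exact hG1 (hinj (h.trans (map_zero _).symm))
    · dsimp only
      rw [hG2 v hv, map_zero]
  -- the zero pattern in terms of divisors
  have hpat : ∀ ω : Γ(L, ⊤), ω ≠ 0 → ((∃ e : Fin n → X, Function.Injective e ∧
        (∀ i, Cyc.zeroSectionFun (fun _ => (0 : ℤ)) 0 L ω (e i) = (μ i : ℤ)) ∧
        ∀ x : X, x ∉ Set.range e → Cyc.zeroSectionFun (fun _ => (0 : ℤ)) 0 L ω x = 0) ↔
      ∃ x : Fin n → LocSym.Pt c, Function.Injective x ∧ o ω = ∑ i, Finsupp.single (x i) (μ i : ℤ)) := by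
    intro ω hω
    constructor
    · rintro ⟨e, he, h1, h2⟩
      have h3 : ∀ i, ∃ y : LocSym.Pt c, y.pt = e i := by
        intro i
        apply exists_pt
        rw [Groth.Agent.CurvesA.CurveDvr.isClosed_singleton_iff hdim]
        intro h
        have h4 := h1 i
        rw [h, zeroSectionFun_generic hL hω] at h4
        have := hμ i
        omega
      choose y hy using h3
      have hyi : Function.Injective y := fun a b hab => he (by rw [← hy a, ← hy b, hab])
      refine ⟨y, hyi, ?_⟩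
      ext z
      rw [← ho ω hω]
      by_cases hz : z ∈ Set.range y
      · obtain ⟨i, rfl⟩ := hz
        rw [sum_single_of_inj hyi, hy, h1]
      · rw [sum_single_of_notMem _ hz]
        apply h2
        rintro ⟨i, hi⟩
        exact hz ⟨i, pt_injective c ((hy i).trans hi)⟩
    · rintro ⟨x, hx, h1⟩
      refine ⟨fun i => (x i).pt, fun a b hab => hx (pt_injective c hab), fun i => ?_, fun y hy => ?_⟩
      · rw [ho ω hω, h1, sum_single_of_inj hx]
      · by_cases hyg : y = genericPoint X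
        · rw [hyg]
          exact zeroSectionFun_generic hL hω
        · obtain ⟨z, rfl⟩ := exists_pt c y ((Groth.Agent.CurvesA.CurveDvr.isClosed_singleton_iff hdim y).2 hyg)
          rw [ho ω hω, h1, sum_single_of_notMem]
          rintro ⟨i, rfl⟩
          exact hy ⟨i, rfl⟩
  refine ⟨{g | g ∈ pr Γ(X, ⊤) Γ(L, ⊤) ∧ ∀ v ∈ Cl μ, g v = 0},
    {g | g ∈ pr Γ(X, ⊤) Γ(L, ⊤) ∧ g 0 = 0 ∧ ∀ m < n, ∀ ν : Fin m → ℕ, (∀ i, 0 < ν i) → ∑ i, ν i = ∑ i, μ i →
      ∀ v ∈ Cl ν, g v = 0}, ?_, ?_⟩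
  · rintro g (hg | hg)
    · exact hg.1
    · exact hg.1
  ext ω
  simp only [Set.mem_ofPred_eq]
  constructor
  · rintro ⟨hω, he⟩
    obtain ⟨x, hx, hx'⟩ := (hpat ω hω).1 he
    refine ⟨fun g hg => hg.2 ω (Or.inr ⟨x, hx'⟩), ?_⟩
    -- a linear form
    have hlin : ∃ φ : Γ(L, ⊤) →ₗ[k] k, φ ω ≠ 0 := by
      by_contra! hcon
      apply hω
      exact (Module.forall_dual_apply_eq_zero_iff k ω).1 hcon
    obtain ⟨φ, hφ⟩ := hlin
    let M := ∑ i, μ i
    have hg : ∀ (m : ℕ) (ν : Fin m → ℕ), ∃ g ∈ pr Γ(X, ⊤) Γ(L, ⊤), g ω ≠ 0 ∧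
        (m < n → (∀ i, 0 < ν i) → ∀ v ∈ Cl ν, g v = 0) := by
      intro m ν
      by_cases h1 : m < n ∧ ∀ i, 0 < ν i
      · obtain ⟨g, hg, hg1, hg2⟩ := key ν h1.2 ω (by
          rintro (h | ⟨y, hy⟩)
          · exact hω h
          · exact absurd (le_of_eq_sum hx hμ (hx'.symm.trans hy)) (not_le.2 h1.1))
        exact ⟨g, hg, hg1, fun _ _ => hg2⟩
      · refine ⟨1, Subring.one_mem _, one_ne_zero, fun h2 h3 => absurd ⟨h2, h3⟩ h1⟩
    choose g hg hg1 hg2 using hg
    let Q : Γ(L, ⊤) → Γ(X, ⊤) := ∏ m ∈ Finset.range n, ∏ ν ∈ Fintype.piFinset (fun _ : Fin m => Finset.range (M + 1)), g m ν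
    have hQ : Q ∈ pr Γ(X, ⊤) Γ(L, ⊤) := Subring.prod_mem _ fun m _ => Subring.prod_mem _ fun ν _ => hg m ν
    let φ' : Γ(L, ⊤) → Γ(X, ⊤) := fun v => str c (φ v)
    have hφ' : φ' ∈ pr Γ(X, ⊤) Γ(L, ⊤) := comp_mem (str c) hsurj (φ : Γ(L, ⊤) → k) (lin_mem_pf φ)
    refine ⟨φ' * Q, ⟨Subring.mul_mem _ hφ' hQ, ?_, ?_⟩, ?_⟩
    · rw [Pi.mul_apply]
      simp only [φ', map_zero, zero_mul]
    · intro m hm ν hν hsum v hv
      rw [Pi.mul_apply]
      have : Q v = 0 := by
        simp only [Q, Finset.prod_apply]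
        refine Finset.prod_eq_zero (Finset.mem_range.2 hm) (Finset.prod_eq_zero (i := ν) ?_ (hg2 m ν hm hν v hv))
        rw [Fintype.mem_piFinset]
        intro i
        rw [Finset.mem_range, Nat.lt_succ_iff]
        change ν i ≤ ∑ i, μ i
        rw [← hsum]
        exact Finset.single_le_sum (fun _ _ => Nat.zero_le _) (Finset.mem_univ i)
      rw [this, mul_zero]
    · rw [Pi.mul_apply]
      refine mul_ne_zero ?_ ?_
      · intro h
        exact hφ (hinj (h.trans (map_zero _).symm))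
      · simp only [Q, Finset.prod_apply]
        exact Finset.prod_ne_zero_iff.2 fun m _ => Finset.prod_ne_zero_iff.2 fun ν _ => hg1 m ν
  · rintro ⟨hF, g, ⟨hg, hg0, hg1⟩, hgω⟩
    have hω : ω ≠ 0 := by
      rintro rfl
      exact hgω hg0
    refine ⟨hω, (hpat ω hω).2 ?_⟩
    have hCl : ω ∈ Cl μ := by
      by_contra hcon
      obtain ⟨G, hG, hG1, hG2⟩ := key μ hμ ω hcon
      exact hG1 (hF G ⟨hG, hG2⟩)
    obtain ⟨x, hx⟩ := hCl.resolve_left hω
    refine ⟨x, ?_, hx⟩
    by_contra hcon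
    obtain ⟨m, hm, ν, y, hν, hsum, hxy⟩ := exists_short hμ hcon
    exact hgω (hg1 m hm ν hν hsum ω (Or.inr ⟨y, hx.trans hxy⟩))

end K709.StratFam
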